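import Groth.Agent.Pi1.K158.RamPush
import Groth.Agent.Models.RMGRing
import Groth.Agent.S0543
import Groth.Agent.Pi1A.FEtGlue
import Groth.Agent.CalgB.RegHom6
import Groth.Agent.CalgB.RegHom7
import Mathlib.AlgebraicGeometry.PullbackCarrier

/-!
# Purity of the branch locus for normal domains whose completed local rings are pure
-/

set_option autoImplicit false
universe u

open CategoryTheory CategoryTheory.Limits AlgebraicGeometry TopologicalSpace IsLocalRing
open scoped TensorProduct

namespace K158.RamPure

open Groth.Agent

/-- A pure pair formed by the spectrum of a local ring and its closed point. -/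
theorem isEquivalence_of_isPurePair (A : Type u) [CommRing A] [IsLocalRing A]
    (h : SGA2.IsPurePair (Spec (CommRingCat.of A)) (FEt.puncturedSpec A)) :
    (FEt.restrict (FEt.puncturedSpec A).ι).IsEquivalence := by
  refine Groth.Agent.Pi1A.FEtGlue.isEquivalence_of_arrowIso ?_ (h ⊤)
  refine (Arrow.isoMk ((Spec (CommRingCat.of A)).isoOfEq (top_inf_eq (FEt.puncturedSpec A)))
    (Scheme.topIso _) ?_).symm
  simp

theorem exists_prime_tensor {R A B : Type u} [CommRing R] [CommRing A] [CommRing B] [Algebra R A]
    [Algebra R B] (q : PrimeSpectrum A) (t : PrimeSpectrum B)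
    (h : q.comap (algebraMap R A) = t.comap (algebraMap R B)) :
    ∃ r : PrimeSpectrum (A ⊗[R] B), r.comap Algebra.TensorProduct.includeLeftRingHom = q ∧
      r.comap (Algebra.TensorProduct.includeRight (R := R) (A := A) (B := B)).toRingHom = t := by
  obtain ⟨z, hz1, hz2⟩ := Scheme.Pullback.exists_preimage_pullback
    (f := Spec.map (CommRingCat.ofHom (algebraMap R A)))
    (g := Spec.map (CommRingCat.ofHom (algebraMap R B))) q t (by exact h)
  refine ⟨(pullbackSpecIso R A B).hom z, ?_, ?_⟩
  · have : (Spec.map (CommRingCat.ofHom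
        (Algebra.TensorProduct.includeLeftRingHom (R := R) (A := A) (B := B))))
      ((pullbackSpecIso R A B).hom z) = q := by
      rw [← hz1, ← pullbackSpecIso_inv_fst, ← Scheme.Hom.comp_apply]
      simp
    exact this
  · have : (Spec.map (CommRingCat.ofHom (RingHomClass.toRingHom
        (Algebra.TensorProduct.includeRight (R := R) (A := A) (B := B)))))
      ((pullbackSpecIso R A B).hom z) = t := by
      rw [← hz2, ← pullbackSpecIso_inv_snd, ← Scheme.Hom.comp_apply]
      simp
    exact this

theorem henselianLocalRing_of_isAdicComplete (A : Type u) [CommRing A] [IsLocalRing A]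
    [IsAdicComplete (maximalIdeal A) A] : HenselianLocalRing A where
  is_henselian := by
    intro f hf a₀ h₁ h₂
    exact HenselianRing.is_henselian (I := maximalIdeal A) f hf a₀ h₁
      (h₂.map (Ideal.Quotient.mk (maximalIdeal A)))

theorem height_le_height_under (A : Type u) [CommRing A] (B : Type u) [CommRing B] [Algebra A B]
    [Algebra.IsIntegral A B] (Q : Ideal B) [hQ : Q.IsPrime] : Q.height ≤ (Q.under A).height := by
  have h1 : StrictMono (PrimeSpectrum.comap (algebraMap A B)) := by
    intro I J hIJ
    exact Ideal.IsIntegral.comap_lt_comap (R := A) (I := I.asIdeal) (J := J.asIdeal) hIJ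
  have h2 := Order.height_le_height_apply_of_strictMono _ h1 ⟨Q, hQ⟩
  rw [← PrimeSpectrum.height_eq_orderHeight, ← PrimeSpectrum.height_eq_orderHeight] at h2
  exact h2

theorem main (A : Type u) [CommRing A] [IsDomain A] [IsNoetherianRing A]
    [IsIntegrallyClosed A] (hA : CAlg.IsGRing A) (B : Type u) [CommRing B] [IsDomain B]
    [IsIntegrallyClosed B] [Algebra A B] [Module.Finite A B]
    (hinj : Function.Injective (algebraMap A B)) (q : Ideal B) [q.IsPrime]
    (hpure : (FEt.restrict (FEt.puncturedSpec (AdicCompletion
      (IsLocalRing.maximalIdeal (Localization.AtPrime (q.under A)))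
      (Localization.AtPrime (q.under A)))).ι).IsEquivalence)
    (hmin : ∀ (q' : Ideal B) [q'.IsPrime], q' ≤ q → ¬ Algebra.IsUnramifiedAt A q' → q' = q) :
    Algebra.IsUnramifiedAt A q := by
  let P := q.under A
  let L := Localization.AtPrime P
  have hL1 : IsDomain L := IsLocalization.isDomain_of_atPrime _ P
  have hL2 : IsIntegrallyClosed L :=
    isIntegrallyClosed_of_isLocalization _ P.primeCompl P.primeCompl_le_nonZeroDivisors
  let C := AdicCompletion (maximalIdeal L) L
  obtain ⟨hC1, hC2⟩ := Groth.Agent.Models.RMGRing.cpl_of_isGRing hA P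
  have hCN : IsNoetherianRing C := Groth.Agent.S0543.result L _
  have hCh : HenselianLocalRing C := henselianLocalRing_of_isAdicComplete C
  have hst : IsScalarTower A L C := inferInstance
  have hr1 : CAlg.IsRegularHom A L :=
    Groth.Agent.CalgB.RegHom7.isRegularHom_of_isLocalization L P.primeCompl
  have hr2 : CAlg.IsRegularHom A C := Groth.Agent.CalgB.RegHom6.isRegularHom_comp hr1 (hA.2 P)
  have hBN : IsNoetherianRing B := IsNoetherianRing.of_finite A B
  let D := B ⊗[A] C
  let _ : Algebra C D := Algebra.TensorProduct.rightAlgebra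
  have hr3 : CAlg.IsRegularHom B D := Groth.Agent.CalgB.RegHom6.isRegularHom_baseChange B hr2
  have hfin : Module.Finite C D := finite_of_isPushout (A := A) (B := B)
  have hDN : IsNoetherianRing D := IsNoetherianRing.of_finite C D
  have hDn : EGA4.IsNormalRing D :=
    S2641.good_normal.asc B D hr3 Groth.Agent.Models.RMGRing.isNormalRing
  have hflat : Module.Flat B D := hr3.1
  have hPC : P.map (algebraMap A C) = maximalIdeal C := by
    rw [IsScalarTower.algebraMap_eq A L C, ← Ideal.map_map, Localization.AtPrime.map_eq_maximalIdeal]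
    exact AdicCompletion.maximalIdeal_eq_map.symm
  have hover : (closedPoint C).comap (algebraMap A C) = (⟨P, inferInstance⟩ : PrimeSpectrum A) := by
    have hlh : IsLocalHom (algebraMap L C) := inferInstance
    have h1 : (maximalIdeal C).comap (algebraMap L C) = maximalIdeal L :=
      ((IsLocalRing.local_hom_TFAE (algebraMap L C)).out 0 4).mp hlh
    refine PrimeSpectrum.ext ?_
    change (maximalIdeal C).comap (algebraMap A C) = P
    rw [IsScalarTower.algebraMap_eq A L C, ← Ideal.comap_comap, h1]
    exact Localization.AtPrime.comap_maximalIdeal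
  obtain ⟨n, hn1, hn2⟩ := exists_prime_tensor (R := A) (⟨q, inferInstance⟩ : PrimeSpectrum B)
    (closedPoint C) (by rw [hover]; rfl)
  have hnq : n.asIdeal.LiesOver q := ⟨(congrArg PrimeSpectrum.asIdeal hn1).symm⟩
  have hnC : n.asIdeal.under C = maximalIdeal C := congrArg PrimeSpectrum.asIdeal hn2
  exact isUnramifiedAt (A := A) (C := C) (D := D) hinj hDn hpure q hPC n.asIdeal hnC hmin

end K158.RamPure
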