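import Groth.Agent.Pi1.K260.Dif
import Groth.Agent.Sga1.EtaleHom
import Groth.Agent.Sga1.SecLocal
import Mathlib.AlgebraicGeometry.Morphisms.Integral
import Mathlib.FieldTheory.IsAlgClosed.Basic

/-!
# Geometric points, functions and principal covers

* `exists_lift_integral`: geometric points lift along integral morphisms.
* `exists_desc`: locally constant functions descend along closed surjective morphisms, the condition being checked on
  geometric points.
* `exists_iso`: an equivariant isomorphism of principal covers from the function `ε` with `x = ε (x, y) φ (y)`.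
-/

set_option autoImplicit false
universe u

open CategoryTheory CategoryTheory.Limits AlgebraicGeometry

namespace K158.PtTools

open K260.Dif Groth.Agent.Pi1A.FEtAffine

/-- A scheme integral and non-empty over an algebraically closed field has a rational point. -/
theorem exists_section {K : Type u} [Field K] [IsAlgClosed K] {T : Scheme.{u}}
    (f : T ⟶ Spec (CommRingCat.of K)) [IsIntegralHom f] (t : T) : ∃ σ : Spec (CommRingCat.of K) ⟶ T, σ ≫ f = 𝟙 _ := by
  have haff : IsAffine T := isAffine_of_isAffineHom f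
  let A := Γ(T, ⊤)
  let e := T.isoSpec
  obtain ⟨φ, hφ⟩ : ∃ φ : CommRingCat.of K ⟶ A, Spec.map φ = e.inv ≫ f := ⟨_, Spec.map_preimage _⟩
  have hint : φ.hom.IsIntegral := by
    rw [← IsIntegralHom.SpecMap_iff, hφ]
    infer_instance
  let _ : Algebra K A := φ.hom.toAlgebra
  let p : PrimeSpectrum A := e.hom t
  have : Algebra.IsIntegral K A := ⟨hint⟩
  have hb : Function.Bijective (algebraMap K (A ⧸ p.asIdeal)) :=
    IsAlgClosed.algebraMap_bijective_of_isIntegral
  let r : (A ⧸ p.asIdeal) ≃+* K := (RingEquiv.ofBijective _ hb).symm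
  let ψ : A →+* K := (r : (A ⧸ p.asIdeal) →+* K).comp (Ideal.Quotient.mk p.asIdeal)
  have hψ : ψ.comp φ.hom = RingHom.id K := by
    ext x
    exact (RingEquiv.ofBijective _ hb).symm_apply_apply x
  refine ⟨Spec.map (CommRingCat.ofHom ψ) ≫ e.inv, ?_⟩
  rw [Category.assoc, ← hφ, ← Spec.map_comp]
  have : φ ≫ CommRingCat.ofHom ψ = 𝟙 _ := CommRingCat.hom_ext hψ
  rw [this]
  exact Spec.map_id _

/-- Geometric points lift along integral morphisms. -/
theorem exists_lift_integral {K : Type u} [Field K] [IsAlgClosed K] {T Z : Scheme.{u}} (t : T ⟶ Z) [IsIntegralHom t]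
    (y : Spec (CommRingCat.of K) ⟶ Z) (h : y default ∈ Set.range t) :
    ∃ z : Spec (CommRingCat.of K) ⟶ T, z ≫ t = y := by
  obtain ⟨a, ha⟩ := h
  obtain ⟨x, -, -⟩ := Scheme.Pullback.exists_preimage_pullback (f := t) (g := y) a default ha
  obtain ⟨σ, hσ⟩ := exists_section (pullback.snd t y) x
  refine ⟨σ ≫ pullback.fst t y, ?_⟩
  rw [Category.assoc, pullback.condition, ← Category.assoc, hσ, Category.id_comp]

/-- **Descent of locally constant functions.** -/
theorem exists_desc {A N : Scheme.{u}} (μ : A ⟶ N) (hc : IsClosedMap μ) [hs : Surjective μ] {E : Type*} (f : A → E)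
    (hf : IsLocallyConstant f)
    (h : ∀ (K : Type u) [Field K] [IsAlgClosed K] (a b : Spec (CommRingCat.of K) ⟶ A), a ≫ μ = b ≫ μ →
      f (a default) = f (b default)) :
    ∃ g : N → E, IsLocallyConstant g ∧ ∀ a, g (μ a) = f a := by
  have h1 : ∀ a b : A, μ a = μ b → f a = f b := by
    intro a b hab
    obtain ⟨w, hw1, hw2⟩ := Scheme.Pullback.exists_preimage_pullback (f := μ) (g := μ) a b hab
    obtain ⟨K, _, _, κ, rfl⟩ := exists_pt w
    have h2 := h K (κ ≫ pullback.fst μ μ) (κ ≫ pullback.snd μ μ) (by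
      rw [Category.assoc, Category.assoc, pullback.condition])
    rw [Scheme.Hom.comp_apply, Scheme.Hom.comp_apply, hw1, hw2] at h2
    exact h2
  have hq : Topology.IsQuotientMap μ := hc.isQuotientMap μ.continuous hs.surj
  choose k hk using hs.surj
  have h3 : ∀ a, f (k (μ a)) = f a := fun a => h1 _ _ (hk _)
  refine ⟨fun n => f (k n), fun s => ?_, h3⟩
  rw [← hq.isOpen_preimage]
  have h4 : μ ⁻¹' ((fun n => f (k n)) ⁻¹' s) = f ⁻¹' s := by
    ext a
    change f (k (μ a)) ∈ s ↔ f a ∈ s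
    rw [h3]
  rw [h4]
  exact hf s

/-- field valued points after a field extension -/
theorem eq_of_field {L K : Type u} [Field L] [Field K] (φ : L →+* K) {Y : Scheme.{u}}
    (a b : Spec (CommRingCat.of L) ⟶ Y)
    (h : Spec.map (CommRingCat.ofHom φ) ≫ a = Spec.map (CommRingCat.ofHom φ) ≫ b) : a = b := by
  have h1 : Flat (Spec.map (CommRingCat.ofHom φ)) := by
    rw [Flat.SpecMap_iff]
    let _ := φ.toAlgebra
    exact inferInstanceAs (Module.Flat L K)
  have h2 : Surjective (Spec.map (CommRingCat.ofHom φ)) := ⟨fun x => ⟨default, Subsingleton.elim _ _⟩⟩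
  have : Epi (Spec.map (CommRingCat.ofHom φ)) := Flat.epi_of_flat_of_surjective _
  exact (cancel_epi _).1 h

theorem univSubmersive_of_finite {X Y : Scheme.{u}} (f : X ⟶ Y) [UniversallyClosed f] [Surjective f] :
    SGA1.UnivSubmersive f :=
  Groth.Agent.Sga1.SecLocal.univSubmersive_of_universallyClosed f

section Iso

variable {Y : Scheme.{u}} {G : Type} [Group G] {P Q : FEt.Cat Y} {ρ : G →* Aut P} {τ : G →* Aut Q}

/-- `ε` behaves like the function with `x = ε (x, y) φ (y)`. -/
def IsEq (ρ : G →* Aut P) (τ : G →* Aut Q) (ε : ↥(pullback P.hom Q.hom) → G) : Prop :=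
  ∀ (K : Type u) [Field K] [IsAlgClosed K] (x : Spec (CommRingCat.of K) ⟶ P.left)
    (y : Spec (CommRingCat.of K) ⟶ Q.left) (h : x ≫ P.hom = y ≫ Q.hom) (c d : G)
    (h' : (x ≫ (ρ c).hom.left) ≫ P.hom = (y ≫ (τ d).hom.left) ≫ Q.hom),
    ε (pullback.lift (x ≫ (ρ c).hom.left) (y ≫ (τ d).hom.left) h' default) =
      c * ε (pullback.lift x y h default) * d⁻¹

theorem surjective_hom (hP : SGA1t.IsPrincipal G P ρ) : Surjective P.hom := ⟨fun y => by
  obtain ⟨x, hx⟩ := hP.1 y
  exact ⟨x, hx⟩⟩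

theorem exists_hom (hP : SGA1t.IsPrincipal G P ρ) (hQ : SGA1t.IsPrincipal G Q τ) (ε : ↥(pullback P.hom Q.hom) → G)
    (hε : IsLocallyConstant ε) (he : IsEq ρ τ ε) :
    ∃ φ : Q.left ⟶ P.left, φ ≫ P.hom = Q.hom ∧ ∀ (K : Type u) [Field K] [IsAlgClosed K]
      (x : Spec (CommRingCat.of K) ⟶ P.left) (y : Spec (CommRingCat.of K) ⟶ Q.left) (h : x ≫ P.hom = y ≫ Q.hom),
      x = y ≫ φ ≫ (ρ (ε (pullback.lift x y h default))).hom.left := by
  have i1 : IsFinite P.hom := P.prop.1
  have i2 : Etale P.hom := P.prop.2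
  have i3 : Surjective P.hom := surjective_hom hP
  obtain ⟨v, hv, hd⟩ := exists_twist hP (pullback.fst P.hom Q.hom) (fun n => (ε n)⁻¹) (hε.comp _)
  have key : ∀ (K : Type u) [Field K] [IsAlgClosed K] (x : Spec (CommRingCat.of K) ⟶ P.left)
      (y : Spec (CommRingCat.of K) ⟶ Q.left) (h : x ≫ P.hom = y ≫ Q.hom),
      pullback.lift x y h ≫ v = x ≫ (ρ (ε (pullback.lift x y h default))⁻¹).hom.left := by
    intro K _ _ x y h
    have e1 : (pullback.lift x y h ≫ pullback.fst P.hom Q.hom) ≫ P.hom = (pullback.lift x y h ≫ v) ≫ P.hom := by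
      rw [Category.assoc, Category.assoc, hv]
    have e2 := eq_act hP (pullback.lift x y h ≫ pullback.fst P.hom Q.hom) (pullback.lift x y h ≫ v) e1
    rw [← dif_pt hP _ _ hv _ e1, hd, pullback.lift_fst] at e2
    exact e2
  have key2 : ∀ (K : Type u) [Field K] [IsAlgClosed K] (x x' : Spec (CommRingCat.of K) ⟶ P.left)
      (y y' : Spec (CommRingCat.of K) ⟶ Q.left) (h : x ≫ P.hom = y ≫ Q.hom) (h' : x' ≫ P.hom = y' ≫ Q.hom),
      y = y' → pullback.lift x y h ≫ v = pullback.lift x' y' h' ≫ v := by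
    intro K _ _ x x' y y' h h' hy
    subst hy
    rw [key K x y h, key K x' y h']
    obtain ⟨c, rfl⟩ : ∃ c, x' = x ≫ (ρ c).hom.left := ⟨_, eq_act hP x x' (h.trans h'.symm)⟩
    have e0 : (x ≫ (ρ c).hom.left) ≫ P.hom = (y ≫ (τ 1).hom.left) ≫ Q.hom := by
      rw [h', act_one]
      exact congrArg (fun k => k ≫ Q.hom) (Category.comp_id y).symm
    have e1 : pullback.lift (x ≫ (ρ c).hom.left) (y ≫ (τ 1).hom.left) e0 =
        pullback.lift (x ≫ (ρ c).hom.left) y h' := by
      apply pullback.hom_ext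
      · rw [pullback.lift_fst, pullback.lift_fst]
      · rw [pullback.lift_snd, pullback.lift_snd, act_one]
        exact Category.comp_id y
    have e2 := he K x y h c 1 e0
    rw [e1, inv_one, mul_one] at e2
    rw [e2, Category.assoc]
    refine congrArg (fun k => x ≫ k) ?_
    rw [act_act, mul_inv_rev, inv_mul_cancel_right]
  obtain ⟨φ, hφ1, hφ2⟩ := Groth.Agent.Sga1.EtaleHom.exists_hom_of_compat (pullback.snd P.hom Q.hom)
    (univSubmersive_of_finite _) Q.hom P.hom v (by rw [← hv, pullback.condition]) (by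
      intro L _ x₀ x₁ hx
      let α : L →+* AlgebraicClosure L := algebraMap L (AlgebraicClosure L)
      refine eq_of_field α _ _ ?_
      set s := Spec.map (CommRingCat.ofHom α)
      have hl : ∀ (r : Spec (CommRingCat.of (AlgebraicClosure L)) ⟶ pullback P.hom Q.hom),
          r = pullback.lift (r ≫ pullback.fst P.hom Q.hom) (r ≫ pullback.snd P.hom Q.hom) (by
            rw [Category.assoc, Category.assoc, pullback.condition]) := by
        intro r
        apply pullback.hom_ext
        · rw [pullback.lift_fst]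
        · rw [pullback.lift_snd]
      rw [← Category.assoc, ← Category.assoc, hl (s ≫ x₀), hl (s ≫ x₁)]
      exact key2 _ _ _ _ _ _ _ (by rw [Category.assoc, Category.assoc, hx]))
  refine ⟨φ, hφ1, fun K _ _ x y h => ?_⟩
  have h1 := key K x y h
  rw [← hφ2, ← Category.assoc, pullback.lift_snd] at h1
  rw [← Category.assoc, h1, Category.assoc, act_act, mul_inv_cancel, act_one, Category.comp_id]

/-- morphisms to finite étale covers are determined by the geometric points -/
theorem hom_ext_pt (hP : SGA1t.IsPrincipal G P ρ) {A : Scheme.{u}} (a b : A ⟶ P.left) (h : a ≫ P.hom = b ≫ P.hom)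
    (hk : ∀ (K : Type u) [Field K] [IsAlgClosed K] (x : Spec (CommRingCat.of K) ⟶ A), x ≫ a = x ≫ b) : a = b := by
  refine eq_of_dif hP a b h fun z => ?_
  obtain ⟨K, _, _, κ, rfl⟩ := exists_pt z
  have h1 : (κ ≫ a) ≫ P.hom = (κ ≫ b) ≫ P.hom := by rw [hk]
  rw [dif_pt hP a b h κ h1]
  refine dif_eq_of_act hP _ _ _ _ ?_ _
  rw [act_one, Category.comp_id, hk]

theorem IsEq.symm {ε : ↥(pullback P.hom Q.hom) → G} (he : IsEq ρ τ ε) :
    IsEq τ ρ (fun n => (ε ((pullbackSymmetry Q.hom P.hom).hom n))⁻¹) := by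
  intro K _ _ y x h c d h'
  have e : ∀ {A : Scheme.{u}} (y : A ⟶ Q.left) (x : A ⟶ P.left) (h : y ≫ Q.hom = x ≫ P.hom),
      pullback.lift y x h ≫ (pullbackSymmetry Q.hom P.hom).hom = pullback.lift x y h.symm := by
    intro A y x h
    apply pullback.hom_ext
    · rw [Category.assoc, pullbackSymmetry_hom_comp_fst, pullback.lift_snd, pullback.lift_fst]
    · rw [Category.assoc, pullbackSymmetry_hom_comp_snd, pullback.lift_fst, pullback.lift_snd]
  change (ε ((pullbackSymmetry Q.hom P.hom).hom (pullback.lift _ _ h' default)))⁻¹ =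
    c * (ε ((pullbackSymmetry Q.hom P.hom).hom (pullback.lift _ _ h default)))⁻¹ * d⁻¹
  rw [← Scheme.Hom.comp_apply, ← Scheme.Hom.comp_apply, e, e, he K x y h.symm d c h'.symm]
  group

/-- **Equivariant isomorphisms.** -/
theorem exists_iso (hP : SGA1t.IsPrincipal G P ρ) (hQ : SGA1t.IsPrincipal G Q τ) (ε : ↥(pullback P.hom Q.hom) → G)
    (hε : IsLocallyConstant ε) (he : IsEq ρ τ ε) :
    ∃ e : Q ≅ P, ∀ c : G, (τ c).hom ≫ e.hom = e.hom ≫ (ρ c).hom := by
  obtain ⟨φ, h1, h2⟩ := exists_hom hP hQ ε hε he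
  obtain ⟨ψ, h3, h4⟩ := exists_hom hQ hP _
    ((hε.comp_continuous (pullbackSymmetry Q.hom P.hom).hom.continuous).comp fun g => g⁻¹) he.symm
  have e : ∀ {A : Scheme.{u}} (y : A ⟶ Q.left) (x : A ⟶ P.left) (h : y ≫ Q.hom = x ≫ P.hom),
      pullback.lift y x h ≫ (pullbackSymmetry Q.hom P.hom).hom = pullback.lift x y h.symm := by
    intro A y x h
    apply pullback.hom_ext
    · rw [Category.assoc, pullbackSymmetry_hom_comp_fst, pullback.lift_snd, pullback.lift_fst]
    · rw [Category.assoc, pullbackSymmetry_hom_comp_snd, pullback.lift_fst, pullback.lift_snd]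
  have h4' : ∀ (K : Type u) [Field K] [IsAlgClosed K] (y : Spec (CommRingCat.of K) ⟶ Q.left)
      (x : Spec (CommRingCat.of K) ⟶ P.left) (h : y ≫ Q.hom = x ≫ P.hom),
      y = x ≫ ψ ≫ (τ (ε (pullback.lift x y h.symm default))⁻¹).hom.left := by
    intro K _ _ y x h
    have h5 := h4 K y x h
    change y = x ≫ ψ ≫ (τ (ε ((pullbackSymmetry Q.hom P.hom).hom (pullback.lift y x h default)))⁻¹).hom.left at h5
    rw [← Scheme.Hom.comp_apply, e] at h5
    exact h5
  -- values at points of the graph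
  have v1 : ∀ (K : Type u) [Field K] [IsAlgClosed K] (y : Spec (CommRingCat.of K) ⟶ Q.left)
      (h : (y ≫ φ) ≫ P.hom = y ≫ Q.hom), ε (pullback.lift (y ≫ φ) y h default) = 1 := by
    intro K _ _ y h
    refine act_injective hP (y ≫ φ) ?_
    rw [act_one, Category.comp_id, Category.assoc]
    exact (h2 K (y ≫ φ) y h).symm
  have v2 : ∀ (K : Type u) [Field K] [IsAlgClosed K] (x : Spec (CommRingCat.of K) ⟶ P.left)
      (h : x ≫ P.hom = (x ≫ ψ) ≫ Q.hom), ε (pullback.lift x (x ≫ ψ) h default) = 1 := by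
    intro K _ _ x h
    have h5 := h4' K (x ≫ ψ) x h.symm
    rw [← inv_eq_one]
    refine act_injective hQ (x ≫ ψ) ?_
    rw [act_one, Category.comp_id, Category.assoc]
    exact h5.symm
  have c1 : φ ≫ ψ = 𝟙 Q.left := by
    refine hom_ext_pt hQ _ _ (by rw [Category.assoc, h3, h1, Category.id_comp]) ?_
    intro K _ _ y
    have hy : (y ≫ φ) ≫ P.hom = y ≫ Q.hom := by rw [Category.assoc, h1]
    have h5 := h4' K y (y ≫ φ) hy.symm
    rw [v1 K y hy, inv_one, act_one, Category.comp_id] at h5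
    rw [Category.comp_id, ← Category.assoc]
    exact h5.symm
  have c2 : ψ ≫ φ = 𝟙 P.left := by
    refine hom_ext_pt hP _ _ (by rw [Category.assoc, h1, h3, Category.id_comp]) ?_
    intro K _ _ x
    have hx : x ≫ P.hom = (x ≫ ψ) ≫ Q.hom := by rw [Category.assoc, h3]
    have h5 := h2 K x (x ≫ ψ) hx
    rw [v2 K x hx, act_one, Category.comp_id] at h5
    rw [Category.comp_id, ← Category.assoc]
    exact h5.symm
  refine ⟨isoMk ⟨φ, ψ, c1, c2⟩ h1, fun c => ?_⟩
  apply MorphismProperty.Over.Hom.ext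
  change (τ c).hom.left ≫ φ = φ ≫ (ρ c).hom.left
  refine hom_ext_pt hP _ _ (by rw [Category.assoc, Category.assoc, h1, act_hom, act_hom, h1]) ?_
  intro K _ _ y
  have hy : (y ≫ φ) ≫ P.hom = y ≫ Q.hom := by rw [Category.assoc, h1]
  have hy' : ((y ≫ φ) ≫ (ρ c).hom.left) ≫ P.hom = (y ≫ (τ c).hom.left) ≫ Q.hom := by
    rw [Category.assoc _ (ρ c).hom.left, Category.assoc _ (τ c).hom.left, act_hom, act_hom, hy]
  have h5 := h2 K _ _ hy'
  rw [he K _ _ hy c c hy', v1 K y hy, mul_one, mul_inv_cancel, act_one, Category.comp_id] at h5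
  rw [← Category.assoc, ← Category.assoc, h5]

end Iso

end K158.PtTools
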