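import Groth.Agent.Pi1.K260.D1Plan
import Groth.Agent.Pi1.K158.PtTools
import Groth.Agent.Pi1.H408.PrincRestrict

/-!
# Part B of the plan, second half: comparison on `W`

Given a principal cover `Q` of `X` with a framing `τ` along `T` which is compatible with the framed local solutions near
the closed fibre, `Q` restricts to `P₀` on `W`.
-/

set_option autoImplicit false
universe u

open CategoryTheory CategoryTheory.Limits AlgebraicGeometry IsLocalRing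

namespace K158.PartB2

open K260.D1 K260.Dif K158.PtTools K868.Bc

variable {G : Type} [Group G] {X Z W T : Scheme.{u}} {j : X ⟶ Z} {w : W ⟶ X} {t : T ⟶ Z} {P₀ : FEt.Cat W}
  {ρ₀ : G →* Aut P₀} {A B : Scheme.{u}} {b : B ⟶ Z}

/-! ### Points of a framed local solution -/

/-- the frame at a point -/
noncomputable def fr (F : FSol t j w P₀ ρ₀ b) (x : A ⟶ X) (z : A ⟶ T) (l : A ⟶ B) (e : x ≫ j = l ≫ b)
    (e' : z ≫ t = l ≫ b) : A ⟶ F.S.P.left := xp j t b x z l e e' ≫ F.τ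

theorem fr_hom (F : FSol t j w P₀ ρ₀ b) (x : A ⟶ X) (z : A ⟶ T) (l : A ⟶ B) (e : x ≫ j = l ≫ b)
    (e' : z ≫ t = l ≫ b) : fr F x z l e e' ≫ F.S.P.hom = pullback.lift x l e := by
  rw [fr, Category.assoc, F.τ_hom, xp, pullback.lift_fst]

theorem comp_xp (k : B ⟶ A) (x : A ⟶ X) (z : A ⟶ T) {B' : Scheme.{u}} {b' : B' ⟶ Z} (l : A ⟶ B')
    (e : x ≫ j = l ≫ b') (e' : z ≫ t = l ≫ b') : k ≫ xp j t b' x z l e e' = xp j t b' (k ≫ x) (k ≫ z) (k ≫ l)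
      (by rw [Category.assoc, e, Category.assoc]) (by rw [Category.assoc, e', Category.assoc]) := by
  rw [xp, xp]
  apply pullback.hom_ext
  · rw [Category.assoc, pullback.lift_fst, pullback.lift_fst]
    apply pullback.hom_ext
    · rw [Category.assoc, pullback.lift_fst, pullback.lift_fst]
    · rw [Category.assoc, pullback.lift_snd, pullback.lift_snd]
  · rw [Category.assoc, pullback.lift_snd, pullback.lift_snd]
    apply pullback.hom_ext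
    · rw [Category.assoc, pullback.lift_fst, pullback.lift_fst]
    · rw [Category.assoc, pullback.lift_snd, pullback.lift_snd]

theorem comp_fr {A' : Scheme.{u}} (F : FSol t j w P₀ ρ₀ b) (k : A' ⟶ A) (x : A ⟶ X) (z : A ⟶ T) (l : A ⟶ B)
    (e : x ≫ j = l ≫ b) (e' : z ≫ t = l ≫ b) : k ≫ fr F x z l e e' = fr F (k ≫ x) (k ≫ z) (k ≫ l)
      (by rw [Category.assoc, e, Category.assoc]) (by rw [Category.assoc, e', Category.assoc]) := by
  rw [fr, fr, ← Category.assoc, comp_xp]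

theorem fr_congr (F : FSol t j w P₀ ρ₀ b) {x x' : A ⟶ X} {z z' : A ⟶ T} {l l' : A ⟶ B} (hx : x = x') (hz : z = z')
    (hl : l = l') (e : x ≫ j = l ≫ b) (e' : z ≫ t = l ≫ b) (f : x' ≫ j = l' ≫ b) (f' : z' ≫ t = l' ≫ b) :
    fr F x z l e e' = fr F x' z' l' f f' := by
  subst hx hz hl
  rfl

/-- the frame of `P₀` given by a framed local solution -/
noncomputable def f0 (F : FSol t j w P₀ ρ₀ b) (p : A ⟶ P₀.left) (z : A ⟶ T) (l : A ⟶ B)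
    (e : (p ≫ P₀.hom ≫ w) ≫ j = l ≫ b) (e' : z ≫ t = l ≫ b) : A ⟶ P₀.left :=
  pullback.lift (fr F (p ≫ P₀.hom ≫ w) z l e e') (p ≫ P₀.hom) (by
    rw [← Category.assoc, fr_hom, pullback.lift_fst, Category.assoc]) ≫ F.S.θ

theorem f0_hom (F : FSol t j w P₀ ρ₀ b) (p : A ⟶ P₀.left) (z : A ⟶ T) (l : A ⟶ B)
    (e : (p ≫ P₀.hom ≫ w) ≫ j = l ≫ b) (e' : z ≫ t = l ≫ b) : f0 F p z l e e' ≫ P₀.hom = p ≫ P₀.hom := by
  rw [f0, Category.assoc, F.S.θ_hom, pullback.lift_snd]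

theorem comp_f0 {A' : Scheme.{u}} (F : FSol t j w P₀ ρ₀ b) (k : A' ⟶ A) (p : A ⟶ P₀.left) (z : A ⟶ T) (l : A ⟶ B)
    (e : (p ≫ P₀.hom ≫ w) ≫ j = l ≫ b) (e' : z ≫ t = l ≫ b) :
    k ≫ f0 F p z l e e' = f0 F (k ≫ p) (k ≫ z) (k ≫ l) (by
      simp only [Category.assoc] at e ⊢
      rw [e]) (by rw [Category.assoc, e', Category.assoc]) := by
  rw [f0, f0, ← Category.assoc]
  refine congrArg (fun r => r ≫ F.S.θ) ?_
  apply pullback.hom_ext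
  · rw [Category.assoc, pullback.lift_fst, pullback.lift_fst, comp_fr]
    exact fr_congr F (Category.assoc _ _ _).symm rfl rfl _ _ _ _
  · rw [Category.assoc, pullback.lift_snd, pullback.lift_snd, Category.assoc]

theorem f0_congr (F : FSol t j w P₀ ρ₀ b) {p p' : A ⟶ P₀.left} {z z' : A ⟶ T} {l l' : A ⟶ B}
    (hp : p ≫ P₀.hom = p' ≫ P₀.hom) (hz : z = z') (hl : l = l')
    (e : (p ≫ P₀.hom ≫ w) ≫ j = l ≫ b) (e' : z ≫ t = l ≫ b) (f : (p' ≫ P₀.hom ≫ w) ≫ j = l' ≫ b)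
    (f' : z' ≫ t = l' ≫ b) : f0 F p z l e e' = f0 F p' z' l' f f' := by
  subst hz hl
  rw [f0, f0]
  refine congrArg (fun r => r ≫ F.S.θ) ?_
  apply pullback.hom_ext
  · rw [pullback.lift_fst, pullback.lift_fst]
    exact fr_congr F (by rw [← Category.assoc, hp, Category.assoc]) rfl rfl _ _ _ _
  · rw [pullback.lift_snd, pullback.lift_snd, hp]

variable {Q : FEt.Cat X} {ρ : G →* Aut Q}

/-- the frame of `Q` -/
noncomputable def fQ (w : W ⟶ X) (τ : pullback j t ⟶ Q.left) (p : A ⟶ P₀.left) (z : A ⟶ T)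
    (e : (p ≫ P₀.hom ≫ w) ≫ j = z ≫ t) : A ⟶ Q.left := pullback.lift (p ≫ P₀.hom ≫ w) z e ≫ τ

theorem fQ_hom {τ : pullback j t ⟶ Q.left} (hτ : τ ≫ Q.hom = pullback.fst j t) (p : A ⟶ P₀.left) (z : A ⟶ T)
    (e : (p ≫ P₀.hom ≫ w) ≫ j = z ≫ t) : fQ w τ p z e ≫ Q.hom = p ≫ P₀.hom ≫ w := by
  rw [fQ, Category.assoc, hτ, pullback.lift_fst]

theorem comp_fQ {A' : Scheme.{u}} (τ : pullback j t ⟶ Q.left) (k : A' ⟶ A) (p : A ⟶ P₀.left) (z : A ⟶ T)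
    (e : (p ≫ P₀.hom ≫ w) ≫ j = z ≫ t) : k ≫ fQ w τ p z e = fQ w τ (k ≫ p) (k ≫ z) (by
      simp only [Category.assoc] at e ⊢
      rw [e]) := by
  rw [fQ, fQ, ← Category.assoc]
  refine congrArg (fun r => r ≫ τ) ?_
  apply pullback.hom_ext
  · rw [Category.assoc, pullback.lift_fst, pullback.lift_fst, Category.assoc]
  · rw [Category.assoc, pullback.lift_snd, pullback.lift_snd]

theorem fQ_congr (τ : pullback j t ⟶ Q.left) {p p' : A ⟶ P₀.left} {z z' : A ⟶ T}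
    (hp : p ≫ P₀.hom = p' ≫ P₀.hom) (hz : z = z') (e : (p ≫ P₀.hom ≫ w) ≫ j = z ≫ t)
    (f : (p' ≫ P₀.hom ≫ w) ≫ j = z' ≫ t) : fQ w τ p z e = fQ w τ p' z' f := by
  subst hz
  rw [fQ, fQ]
  refine congrArg (fun r => r ≫ τ) ?_
  apply pullback.hom_ext
  · rw [pullback.lift_fst, pullback.lift_fst, ← Category.assoc, hp, Category.assoc]
  · rw [pullback.lift_snd, pullback.lift_snd]

/-! ### The values -/

variable (hP₀ : SGA1t.IsPrincipal G P₀ ρ₀) (hQ : SGA1t.IsPrincipal G Q ρ) {τ : pullback j t ⟶ Q.left}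
  (hτ : τ ≫ Q.hom = pullback.fst j t)

/-- the discrepancy of the two framings -/
noncomputable def val (F : FSol t j w P₀ ρ₀ b) (p : A ⟶ P₀.left) (q : A ⟶ Q.left) (z : A ⟶ T) (l : A ⟶ B)
    (e : (p ≫ P₀.hom ≫ w) ≫ j = l ≫ b) (e' : z ≫ t = l ≫ b) (e'' : q ≫ Q.hom = p ≫ P₀.hom ≫ w) : A → G :=
  fun a => dif hP₀ (f0 F p z l e e') p (f0_hom F p z l e e') a *
    (dif hQ (fQ w τ p z (e.trans e'.symm)) q ((fQ_hom hτ p z _).trans e''.symm) a)⁻¹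

theorem isLocallyConstant_val (F : FSol t j w P₀ ρ₀ b) (p : A ⟶ P₀.left) (q : A ⟶ Q.left) (z : A ⟶ T) (l : A ⟶ B)
    (e : (p ≫ P₀.hom ≫ w) ≫ j = l ≫ b) (e' : z ≫ t = l ≫ b) (e'' : q ≫ Q.hom = p ≫ P₀.hom ≫ w) :
    IsLocallyConstant (val hP₀ hQ hτ F p q z l e e' e'') :=
  (isLocallyConstant_dif hP₀ _ _ _).mul (isLocallyConstant_dif hQ _ _ _).inv

theorem val_comp {A' : Scheme.{u}} (F : FSol t j w P₀ ρ₀ b) (k : A' ⟶ A) (p : A ⟶ P₀.left) (q : A ⟶ Q.left)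
    (z : A ⟶ T) (l : A ⟶ B) (e : (p ≫ P₀.hom ≫ w) ≫ j = l ≫ b) (e' : z ≫ t = l ≫ b)
    (e'' : q ≫ Q.hom = p ≫ P₀.hom ≫ w) (f : ((k ≫ p) ≫ P₀.hom ≫ w) ≫ j = (k ≫ l) ≫ b)
    (f' : (k ≫ z) ≫ t = (k ≫ l) ≫ b) (f'' : (k ≫ q) ≫ Q.hom = (k ≫ p) ≫ P₀.hom ≫ w) (a : A') :
    val hP₀ hQ hτ F (k ≫ p) (k ≫ q) (k ≫ z) (k ≫ l) f f' f'' a = val hP₀ hQ hτ F p q z l e e' e'' (k a) := by
  rw [val, val]
  congr 1
  · rw [← dif_comp hP₀ k _ _ _ (by rw [Category.assoc, Category.assoc, f0_hom])]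
    exact dif_congr hP₀ (comp_f0 F k p z l e e').symm rfl _ _ a
  · rw [← dif_comp hQ k _ _ _ (by rw [Category.assoc, fQ_hom hτ, Category.assoc, e''])]
    refine congrArg (fun g => g⁻¹) ?_
    exact dif_congr hQ (comp_fQ τ k p z _).symm rfl _ _ a

theorem val_congr (F : FSol t j w P₀ ρ₀ b) {p p' : A ⟶ P₀.left} {q q' : A ⟶ Q.left} {z z' : A ⟶ T} {l l' : A ⟶ B}
    (hp : p = p') (hq : q = q') (hz : z = z') (hl : l = l')
    (e : (p ≫ P₀.hom ≫ w) ≫ j = l ≫ b) (e' : z ≫ t = l ≫ b) (e'' : q ≫ Q.hom = p ≫ P₀.hom ≫ w)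
    (f : (p' ≫ P₀.hom ≫ w) ≫ j = l' ≫ b) (f' : z' ≫ t = l' ≫ b) (f'' : q' ≫ Q.hom = p' ≫ P₀.hom ≫ w) (a : A) :
    val hP₀ hQ hτ F p q z l e e' e'' a = val hP₀ hQ hτ F p' q' z' l' f f' f'' a := by
  subst hp hq hz hl
  rfl

/-- equivariance -/
theorem val_act (F : FSol t j w P₀ ρ₀ b) (p : A ⟶ P₀.left) (q : A ⟶ Q.left) (z : A ⟶ T) (l : A ⟶ B)
    (e : (p ≫ P₀.hom ≫ w) ≫ j = l ≫ b) (e' : z ≫ t = l ≫ b) (e'' : q ≫ Q.hom = p ≫ P₀.hom ≫ w) (c d : G)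
    (f : ((p ≫ (ρ₀ c).hom.left) ≫ P₀.hom ≫ w) ≫ j = l ≫ b)
    (f'' : (q ≫ (ρ d).hom.left) ≫ Q.hom = (p ≫ (ρ₀ c).hom.left) ≫ P₀.hom ≫ w) (a : A) :
    val hP₀ hQ hτ F (p ≫ (ρ₀ c).hom.left) (q ≫ (ρ d).hom.left) z l f e' f'' a =
      c * val hP₀ hQ hτ F p q z l e e' e'' a * d⁻¹ := by
  have hp : (p ≫ (ρ₀ c).hom.left) ≫ P₀.hom = p ≫ P₀.hom := by rw [Category.assoc, act_hom]
  have h1 := dif_act hP₀ (f0 F p z l e e') p (f0_hom F p z l e e') 1 c (by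
    rw [Category.assoc, act_hom, f0_hom, Category.assoc, act_hom]) a
  have h2 := dif_act hQ (fQ w τ p z (e.trans e'.symm)) q ((fQ_hom hτ p z _).trans e''.symm) 1 d (by
    rw [Category.assoc, act_hom, fQ_hom hτ, Category.assoc, act_hom, e'']) a
  have h3 := dif_congr hP₀ (x := f0 F (p ≫ (ρ₀ c).hom.left) z l f e') (x' := f0 F p z l e e' ≫ (ρ₀ 1).hom.left) (by
    rw [act_one]
    refine Eq.trans ?_ (Category.comp_id _).symm
    exact f0_congr F hp rfl rfl _ _ _ _) (y := p ≫ (ρ₀ c).hom.left) rfl (f0_hom _ _ _ _ _ _) (by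
      rw [Category.assoc, act_hom, f0_hom, Category.assoc, act_hom]) a
  have h4 := dif_congr hQ (x := fQ w τ (p ≫ (ρ₀ c).hom.left) z (f.trans e'.symm))
    (x' := fQ w τ p z (e.trans e'.symm) ≫ (ρ 1).hom.left) (by
    rw [act_one]
    refine Eq.trans ?_ (Category.comp_id _).symm
    exact fQ_congr τ hp rfl _ _) (y := q ≫ (ρ d).hom.left) rfl ((fQ_hom hτ _ _ _).trans f''.symm) (by
      rw [Category.assoc, act_hom, fQ_hom hτ, Category.assoc, act_hom, e'']) a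
  rw [val, val, h3, h4, h1, h2]
  group

/-! ### Compatibility -/

/-- compatibility of the framings over `c : V ⟶ B` -/
def Cpt (F : FSol t j w P₀ ρ₀ b) (ρ : G →* Aut Q) (τ : pullback j t ⟶ Q.left) {V : Scheme.{u}} (c : V ⟶ B) : Prop :=
  ∀ (K : Type u) [Field K] [IsAlgClosed K] (x : Spec (CommRingCat.of K) ⟶ X) (z₁ z₂ : Spec (CommRingCat.of K) ⟶ T)
    (l : Spec (CommRingCat.of K) ⟶ V) (e : x ≫ j = (l ≫ c) ≫ b) (e₁ : z₁ ≫ t = (l ≫ c) ≫ b)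
    (e₂ : z₂ ≫ t = (l ≫ c) ≫ b) (g : G),
    xp j t b x z₂ (l ≫ c) e e₂ ≫ F.τ = (xp j t b x z₁ (l ≫ c) e e₁ ≫ F.τ) ≫ (F.S.ρ g).hom.left →
    pullback.lift x z₂ (e.trans e₂.symm) ≫ τ = (pullback.lift x z₁ (e.trans e₁.symm) ≫ τ) ≫ (ρ g).hom.left

/-- the value does not depend on the point of `T` -/
theorem val_indep (F : FSol t j w P₀ ρ₀ b) {V : Scheme.{u}} {c : V ⟶ B} (hC : Cpt F ρ τ c) {K : Type u} [Field K]
    [IsAlgClosed K] (p : Spec (CommRingCat.of K) ⟶ P₀.left) (q : Spec (CommRingCat.of K) ⟶ Q.left)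
    (z₁ z₂ : Spec (CommRingCat.of K) ⟶ T) (l : Spec (CommRingCat.of K) ⟶ V)
    (e : (p ≫ P₀.hom ≫ w) ≫ j = (l ≫ c) ≫ b) (e₁ : z₁ ≫ t = (l ≫ c) ≫ b) (e₂ : z₂ ≫ t = (l ≫ c) ≫ b)
    (e'' : q ≫ Q.hom = p ≫ P₀.hom ≫ w) :
    val hP₀ hQ hτ F p q z₁ (l ≫ c) e e₁ e'' default = val hP₀ hQ hτ F p q z₂ (l ≫ c) e e₂ e'' default := by
  have hu : fr F (p ≫ P₀.hom ≫ w) z₁ (l ≫ c) e e₁ ≫ F.S.P.hom = fr F (p ≫ P₀.hom ≫ w) z₂ (l ≫ c) e e₂ ≫ F.S.P.hom := by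
    rw [fr_hom, fr_hom]
  obtain ⟨g, hg⟩ : ∃ g, fr F (p ≫ P₀.hom ≫ w) z₂ (l ≫ c) e e₂ =
      fr F (p ≫ P₀.hom ≫ w) z₁ (l ≫ c) e e₁ ≫ (F.S.ρ g).hom.left := ⟨_, eq_act F.S.prin _ _ hu⟩
  have h1 : fQ w τ p z₂ (e.trans e₂.symm) = fQ w τ p z₁ (e.trans e₁.symm) ≫ (ρ g).hom.left :=
    hC K _ z₁ z₂ l e e₁ e₂ g hg
  have h2 : f0 F p z₂ (l ≫ c) e e₂ = f0 F p z₁ (l ≫ c) e e₁ ≫ (ρ₀ g).hom.left := by
    have hy : fr F (p ≫ P₀.hom ≫ w) z₁ (l ≫ c) e e₁ ≫ F.S.P.hom ≫ pullback.fst j b = (p ≫ P₀.hom) ≫ w := by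
      rw [← Category.assoc, fr_hom, pullback.lift_fst, Category.assoc]
    have h3 := F.S.θ_act g K (fr F (p ≫ P₀.hom ≫ w) z₁ (l ≫ c) e e₁) (p ≫ P₀.hom) hy (by
      rw [Category.assoc, ← Category.assoc (F.S.ρ g).hom.left, act_hom, hy])
    rw [f0, f0, Category.assoc, ← h3]
    refine congrArg (fun r => r ≫ F.S.θ) ?_
    apply pullback.hom_ext
    · rw [pullback.lift_fst, pullback.lift_fst, hg]
    · rw [pullback.lift_snd, pullback.lift_snd]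
  have c1 : f0 F p z₁ (l ≫ c) e e₁ ≫ P₀.hom = f0 F p z₂ (l ≫ c) e e₂ ≫ P₀.hom := by rw [f0_hom, f0_hom]
  have c2 : fQ w τ p z₁ (e.trans e₁.symm) ≫ Q.hom = fQ w τ p z₂ (e.trans e₂.symm) ≫ Q.hom := by
    rw [fQ_hom hτ, fQ_hom hτ]
  rw [val, val, dif_trans hP₀ _ _ _ c1 (f0_hom F p z₂ _ e e₂), dif_eq_of_act hP₀ _ _ c1 g h2,
    dif_trans hQ _ _ _ c2 ((fQ_hom hτ p z₂ _).trans e''.symm), dif_eq_of_act hQ _ _ c2 g h1]
  group

/-- coherent framed solutions give the same frame of `P₀` -/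
theorem f0_eq {B' M : Scheme.{u}} {b' : B' ⟶ Z} (F : FSol t j w P₀ ρ₀ b) (F' : FSol t j w P₀ ρ₀ b') (m : M ⟶ B)
    (m' : M ⟶ B') (h : m' ≫ b' = m ≫ b) (δ : ↥(Dom F.S F'.S m rfl m' h) → G) (hδ : Del F.S F'.S m rfl m' h δ)
    (h1 : ∀ (K : Type u) [Field K] [IsAlgClosed K] (x : Spec (CommRingCat.of K) ⟶ X)
      (z : Spec (CommRingCat.of K) ⟶ T) (l : Spec (CommRingCat.of K) ⟶ M) (e : x ≫ j = (l ≫ m) ≫ b)
      (e' : z ≫ t = (l ≫ m) ≫ b) (f : x ≫ j = (l ≫ m') ≫ b') (f' : z ≫ t = (l ≫ m') ≫ b'),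
      δ (dp F.S F'.S m rfl m' h (xp j t b x z (l ≫ m) e e' ≫ F.τ) (xp j t b' x z (l ≫ m') f f' ≫ F'.τ) l
        (F.xp_τ_snd _ _ _ _ _) (F'.xp_τ_snd _ _ _ _ _) ((F.xp_τ_fst _ _ _ _ _).trans (F'.xp_τ_fst _ _ _ _ _).symm)
        default) = 1) {K : Type u} [Field K] [IsAlgClosed K] (p : Spec (CommRingCat.of K) ⟶ P₀.left)
    (z : Spec (CommRingCat.of K) ⟶ T) (l : Spec (CommRingCat.of K) ⟶ M)
    (e : (p ≫ P₀.hom ≫ w) ≫ j = (l ≫ m) ≫ b) (e' : z ≫ t = (l ≫ m) ≫ b)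
    (f : (p ≫ P₀.hom ≫ w) ≫ j = (l ≫ m') ≫ b') (f' : z ≫ t = (l ≫ m') ≫ b') :
    f0 F' p z (l ≫ m') f f' = f0 F p z (l ≫ m) e e' := by
  have h2 := hδ.theta K (xp j t b (p ≫ P₀.hom ≫ w) z (l ≫ m) e e' ≫ F.τ)
    (xp j t b' (p ≫ P₀.hom ≫ w) z (l ≫ m') f f' ≫ F'.τ) l (F.xp_τ_snd _ _ _ _ _) (F'.xp_τ_snd _ _ _ _ _)
    ((F.xp_τ_fst _ _ _ _ _).trans (F'.xp_τ_fst _ _ _ _ _).symm) (p ≫ P₀.hom)
    ((F.xp_τ_fst _ _ _ _ _).trans (Category.assoc _ _ _).symm)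
    ((F'.xp_τ_fst _ _ _ _ _).trans (Category.assoc _ _ _).symm)
  rw [h1 K _ z l e e' f f', act_one] at h2
  refine h2.trans ?_
  exact congrArg (fun r => pullback.lift _ _ _ ≫ r) (Category.comp_id _)

/-! ### The scheme of pairs -/

/-- `P₀ ×_W Q_W` -/
noncomputable abbrev NN (w : W ⟶ X) (P₀ : FEt.Cat W) (Q : FEt.Cat X) : Scheme.{u} :=
  pullback P₀.hom ((FEt.restrict w).obj Q).hom

/-- the structure map to `Z` -/
noncomputable def hh (j : X ⟶ Z) (w : W ⟶ X) (P₀ : FEt.Cat W) (Q : FEt.Cat X) : NN w P₀ Q ⟶ Z :=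
  pullback.fst _ _ ≫ P₀.hom ≫ w ≫ j

/-- points -/
noncomputable def np (p : A ⟶ P₀.left) (q : A ⟶ Q.left) (e : q ≫ Q.hom = p ≫ P₀.hom ≫ w) : A ⟶ NN w P₀ Q :=
  pullback.lift p (pullback.lift (f := Q.hom) (g := w) q (p ≫ P₀.hom) (by rw [e, Category.assoc]))
    (pullback.lift_snd _ _ _).symm

theorem np_fst (p : A ⟶ P₀.left) (q : A ⟶ Q.left) (e : q ≫ Q.hom = p ≫ P₀.hom ≫ w) :
    np p q e ≫ pullback.fst _ _ = p := pullback.lift_fst _ _ _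

theorem np_hh (p : A ⟶ P₀.left) (q : A ⟶ Q.left) (e : q ≫ Q.hom = p ≫ P₀.hom ≫ w) :
    np p q e ≫ hh j w P₀ Q = p ≫ P₀.hom ≫ w ≫ j := by
  rw [hh, ← Category.assoc, np_fst]

theorem np_snd (p : A ⟶ P₀.left) (q : A ⟶ Q.left) (e : q ≫ Q.hom = p ≫ P₀.hom ≫ w) :
    np p q e ≫ pullback.snd _ _ ≫ Groth.Agent.Pi1A.FEtAffine.proj w Q = q := by
  rw [np, pullback.lift_snd_assoc]
  exact pullback.lift_fst _ _ _

/-- the second component of a point -/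
noncomputable abbrev qq (n : A ⟶ NN w P₀ Q) : A ⟶ Q.left :=
  n ≫ pullback.snd _ _ ≫ Groth.Agent.Pi1A.FEtAffine.proj w Q

/-- the first component of a point -/
noncomputable abbrev pp (n : A ⟶ NN w P₀ Q) : A ⟶ P₀.left := n ≫ pullback.fst _ _

theorem qq_hom (n : A ⟶ NN w P₀ Q) : qq n ≫ Q.hom = pp n ≫ P₀.hom ≫ w := by
  rw [qq, pp, Category.assoc, Category.assoc, Category.assoc, (Groth.Agent.Pi1A.FEtAffine.isPullback w Q).w,
    pullback.condition_assoc]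

theorem np_eq (n : A ⟶ NN w P₀ Q) : np (pp n) (qq n) (qq_hom n) = n := by
  apply pullback.hom_ext
  · rw [np_fst]
  · apply (Groth.Agent.Pi1A.FEtAffine.isPullback w Q).hom_ext
    · rw [Category.assoc, Category.assoc, np_snd]
    · rw [Category.assoc, Category.assoc, ← pullback.condition, ← Category.assoc, np_fst, ← Category.assoc]

/-- `s` is the discrepancy function over `V`. -/
def PrAt (F : FSol t j w P₀ ρ₀ b) {V : Scheme.{u}} (a : V ⟶ Z) (c : V ⟶ B)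
    (s : ↥(pullback (hh j w P₀ Q) a) → G) : Prop :=
  ∀ (K : Type u) [Field K] [IsAlgClosed K] (n : Spec (CommRingCat.of K) ⟶ NN w P₀ Q)
    (z : Spec (CommRingCat.of K) ⟶ T) (l : Spec (CommRingCat.of K) ⟶ V) (f : n ≫ hh j w P₀ Q = l ≫ a)
    (e : (pp n ≫ P₀.hom ≫ w) ≫ j = (l ≫ c) ≫ b) (e' : z ≫ t = (l ≫ c) ≫ b),
    s (pullback.lift n l f default) = val hP₀ hQ hτ F (pp n) (qq n) z (l ≫ c) e e' (qq_hom n) default

/-- discrepancy functions exist -/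
theorem exists_sol (hT : AicCov j t) (F : FSol t j w P₀ ρ₀ b) {V : Scheme.{u}} (a : V ⟶ Z) (c : V ⟶ B)
    (hc : c ≫ b = a) (hC : Cpt F ρ τ c) :
    ∃ s : ↥(pullback (hh j w P₀ Q) a) → G, IsLocallyConstant s ∧ PrAt hP₀ hQ hτ F a c s := by
  have it := hT.integral
  let h' : pullback (hh j w P₀ Q) a ⟶ Z := pullback.fst _ _ ≫ hh j w P₀ Q
  let μ : pullback h' t ⟶ pullback (hh j w P₀ Q) a := pullback.fst h' t
  let z : pullback h' t ⟶ T := pullback.snd h' t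
  have hμ : μ ≫ h' = z ≫ t := pullback.condition
  have i1 : Surjective μ := ⟨fun x => by
    obtain ⟨y, hy⟩ := hT.surj ((pullback.fst (hh j w P₀ Q) a ≫ pullback.fst _ _ ≫ P₀.hom ≫ w) x)
    obtain ⟨r, hr, -⟩ := Scheme.Pullback.exists_preimage_pullback (f := h') (g := t) x y (by
      rw [hy, ← Scheme.Hom.comp_apply]
      simp only [h', hh, Category.assoc])
    exact ⟨r, hr⟩⟩
  let n : pullback h' t ⟶ NN w P₀ Q := μ ≫ pullback.fst _ _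
  let l : pullback h' t ⟶ V := μ ≫ pullback.snd _ _
  have e0 : n ≫ hh j w P₀ Q = l ≫ a := by
    simp only [n, l, Category.assoc, pullback.condition]
  have e : (pp n ≫ P₀.hom ≫ w) ≫ j = (l ≫ c) ≫ b := by
    rw [Category.assoc l, hc, ← e0]
    simp only [hh, pp, Category.assoc]
  have e' : z ≫ t = (l ≫ c) ≫ b := by
    rw [← hμ, Category.assoc l, hc, ← e0]
    simp only [n, h', Category.assoc]
  have hK : ∀ {K : Type u} [Field K] [IsAlgClosed K] (κ : Spec (CommRingCat.of K) ⟶ pullback h' t)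
      (n' : Spec (CommRingCat.of K) ⟶ NN w P₀ Q) (z' : Spec (CommRingCat.of K) ⟶ T)
      (l' : Spec (CommRingCat.of K) ⟶ V) (_ : κ ≫ n = n') (_ : κ ≫ z = z') (_ : κ ≫ l = l')
      (f : (pp n' ≫ P₀.hom ≫ w) ≫ j = (l' ≫ c) ≫ b) (f' : z' ≫ t = (l' ≫ c) ≫ b),
      val hP₀ hQ hτ F (pp n) (qq n) z (l ≫ c) e e' (qq_hom n) (κ default) =
        val hP₀ hQ hτ F (pp n') (qq n') z' (l' ≫ c) f f' (qq_hom n') default := by
    intro K _ _ κ n' z' l' h1 h2 h3 f f'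
    subst h1 h2 h3
    rw [← val_comp hP₀ hQ hτ F κ (pp n) (qq n) z (l ≫ c) e e' (qq_hom n) (by
      have := congrArg (fun r => κ ≫ r) e
      simpa only [Category.assoc] using this) (by
      have := congrArg (fun r => κ ≫ r) e'
      simpa only [Category.assoc] using this) (by
      have := congrArg (fun r => κ ≫ r) (qq_hom n)
      simpa only [Category.assoc] using this)]
    exact val_congr hP₀ hQ hτ F (Category.assoc _ _ _).symm (Category.assoc _ _ _).symm rfl (Category.assoc _ _ _).symm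
      _ _ _ _ _ _ _
  obtain ⟨s, hs1, hs2⟩ := exists_desc μ μ.isClosedMap (val hP₀ hQ hτ F (pp n) (qq n) z (l ≫ c) e e' (qq_hom n))
    (isLocallyConstant_val hP₀ hQ hτ F _ _ _ _ e e' (qq_hom n)) (by
      intro K _ _ κ₁ κ₂ hκ
      have g1 : κ₁ ≫ n = κ₂ ≫ n := by
        simp only [n]
        rw [← Category.assoc, hκ, Category.assoc]
      have g2 : κ₁ ≫ l = κ₂ ≫ l := by
        simp only [l]
        rw [← Category.assoc, hκ, Category.assoc]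
      have f : (pp (κ₁ ≫ n) ≫ P₀.hom ≫ w) ≫ j = ((κ₁ ≫ l) ≫ c) ≫ b := by
        have := congrArg (fun r => κ₁ ≫ r) e
        simpa only [Category.assoc] using this
      have f1 : (κ₁ ≫ z) ≫ t = ((κ₁ ≫ l) ≫ c) ≫ b := by
        have := congrArg (fun r => κ₁ ≫ r) e'
        simpa only [Category.assoc] using this
      have f2 : (κ₂ ≫ z) ≫ t = ((κ₁ ≫ l) ≫ c) ≫ b := by
        have := congrArg (fun r => κ₂ ≫ r) e'
        rw [g2]
        simpa only [Category.assoc] using this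
      rw [hK κ₁ (κ₁ ≫ n) (κ₁ ≫ z) (κ₁ ≫ l) rfl rfl rfl f f1, hK κ₂ (κ₁ ≫ n) (κ₂ ≫ z) (κ₁ ≫ l) g1.symm rfl g2.symm f f2]
      exact val_indep hP₀ hQ hτ F hC _ _ _ _ _ _ _ _ _)
  refine ⟨s, hs1, fun K _ _ n' z' l' f g g' => ?_⟩
  let κ : Spec (CommRingCat.of K) ⟶ pullback h' t := pullback.lift (pullback.lift n' l' f) z' (by
    rw [← Category.assoc, pullback.lift_fst, f, g', Category.assoc, hc])
  have k1 : κ ≫ μ = pullback.lift n' l' f := pullback.lift_fst _ _ _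
  rw [← k1, Scheme.Hom.comp_apply, hs2]
  exact hK κ n' z' l' (by simp only [n]; rw [← Category.assoc, k1, pullback.lift_fst]) (pullback.lift_snd _ _ _)
    (by simp only [l]; rw [← Category.assoc, k1, pullback.lift_snd]) g g'

/-! ### The theorem -/

theorem exists_pt_T (hT : AicCov j t) {K : Type u} [Field K] [IsAlgClosed K] (x : Spec (CommRingCat.of K) ⟶ X) :
    ∃ z : Spec (CommRingCat.of K) ⟶ T, z ≫ t = x ≫ j := by
  have it := hT.integral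
  exact exists_lift_integral t (x ≫ j) (by
    rw [Scheme.Hom.comp_apply]
    exact hT.surj _)

/-- two discrepancy functions agree where the framed solutions are coherent -/
theorem pr_agree (hT : AicCov j t) {B' V V' : Scheme.{u}} {b' : B' ⟶ Z} (F : FSol t j w P₀ ρ₀ b)
    (F' : FSol t j w P₀ ρ₀ b') (a : V ⟶ Z) (a' : V' ⟶ Z) (c : V ⟶ B) (c' : V' ⟶ B') (hc : c ≫ b = a)
    (hc' : c' ≫ b' = a') (s : ↥(pullback (hh j w P₀ Q) a) → G) (s' : ↥(pullback (hh j w P₀ Q) a') → G)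
    (hS : PrAt hP₀ hQ hτ F a c s) (hS' : PrAt hP₀ hQ hτ F' a' c' s') (y : ↥(pullback a a'))
    (hcoh : ∀ y₀ : ↥(pullback b b'), b (pullback.fst b b' y₀) = a (pullback.fst a a' y) → CohAt F F' y₀) :
    ∃ (M : Scheme.{u}) (m : M ⟶ V) (m' : M ⟶ V') (hm : m ≫ a = m' ≫ a') (_ : Etale (pullback.lift m m' hm))
      (y' : M) (_ : pullback.lift m m' hm y' = y),
      ∀ (K : Type u) [Field K] [IsAlgClosed K] (n : Spec (CommRingCat.of K) ⟶ NN w P₀ Q)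
        (l : Spec (CommRingCat.of K) ⟶ M) (e : n ≫ hh j w P₀ Q = (l ≫ m) ≫ a)
        (e' : n ≫ hh j w P₀ Q = (l ≫ m') ≫ a'),
        s (pullback.lift n (l ≫ m) e default) = s' (pullback.lift n (l ≫ m') e' default) := by
  let cc : pullback a a' ⟶ pullback b b' := pullback.lift (pullback.fst a a' ≫ c) (pullback.snd a a' ≫ c') (by
    rw [Category.assoc, Category.assoc, hc, hc', pullback.condition])
  have cc1 : cc ≫ pullback.fst b b' = pullback.fst a a' ≫ c := pullback.lift_fst _ _ _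
  have cc2 : cc ≫ pullback.snd b b' = pullback.snd a a' ≫ c' := pullback.lift_snd _ _ _
  obtain ⟨M₀, m₀, m₀', h₀, hE, y₀, hy₀, δ, hδ, h1⟩ := hcoh (cc y) (by
    rw [← Scheme.Hom.comp_apply cc, cc1, ← Scheme.Hom.comp_apply, Category.assoc, hc, Scheme.Hom.comp_apply])
  let μ := pullback.lift m₀ m₀' h₀.symm
  have μ1 : μ ≫ pullback.fst b b' = m₀ := pullback.lift_fst _ _ _
  have μ2 : μ ≫ pullback.snd b b' = m₀' := pullback.lift_snd _ _ _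
  obtain ⟨y', -, hy'⟩ := Scheme.Pullback.exists_preimage_pullback (f := μ) (g := cc) y₀ y hy₀
  let m : pullback μ cc ⟶ V := pullback.snd μ cc ≫ pullback.fst a a'
  let m' : pullback μ cc ⟶ V' := pullback.snd μ cc ≫ pullback.snd a a'
  have hm : m ≫ a = m' ≫ a' := by
    simp only [m, m', Category.assoc, pullback.condition]
  have hl : pullback.lift m m' hm = pullback.snd μ cc := by
    apply pullback.hom_ext
    · rw [pullback.lift_fst]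
    · rw [pullback.lift_snd]
  have iE : Etale μ := hE
  refine ⟨pullback μ cc, m, m', hm, by rw [hl]; infer_instance, y', by rw [hl]; exact hy', ?_⟩
  intro K _ _ n l e e'
  obtain ⟨z, hz⟩ := exists_pt_T hT (pp n ≫ P₀.hom ≫ w)
  have hn : (pp n ≫ P₀.hom ≫ w) ≫ j = n ≫ hh j w P₀ Q := by simp only [hh, pp, Category.assoc]
  have k1 : (l ≫ m) ≫ c = (l ≫ pullback.fst μ cc) ≫ m₀ := by
    have k0 : pullback.fst μ cc ≫ m₀ = m ≫ c := by
      rw [← μ1, ← Category.assoc, pullback.condition, Category.assoc, cc1]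
      simp only [m, Category.assoc]
    rw [Category.assoc l m, Category.assoc l (pullback.fst μ cc), k0]
  have k2 : (l ≫ m') ≫ c' = (l ≫ pullback.fst μ cc) ≫ m₀' := by
    have k0 : pullback.fst μ cc ≫ m₀' = m' ≫ c' := by
      rw [← μ2, ← Category.assoc, pullback.condition, Category.assoc, cc2]
      simp only [m', Category.assoc]
    rw [Category.assoc l m', Category.assoc l (pullback.fst μ cc), k0]
  have g1 : (pp n ≫ P₀.hom ≫ w) ≫ j = ((l ≫ m) ≫ c) ≫ b := by rw [hn, e, Category.assoc _ c, hc]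
  have g2 : z ≫ t = ((l ≫ m) ≫ c) ≫ b := by rw [hz, g1]
  have g3 : (pp n ≫ P₀.hom ≫ w) ≫ j = ((l ≫ m') ≫ c') ≫ b' := by rw [hn, e', Category.assoc _ c', hc']
  have g4 : z ≫ t = ((l ≫ m') ≫ c') ≫ b' := by rw [hz, g3]
  have g1' : (pp n ≫ P₀.hom ≫ w) ≫ j = ((l ≫ pullback.fst μ cc) ≫ m₀) ≫ b := by rw [← k1, g1]
  have g2' : z ≫ t = ((l ≫ pullback.fst μ cc) ≫ m₀) ≫ b := by rw [hz, g1']
  have g3' : (pp n ≫ P₀.hom ≫ w) ≫ j = ((l ≫ pullback.fst μ cc) ≫ m₀') ≫ b' := by rw [← k2, g3]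
  have g4' : z ≫ t = ((l ≫ pullback.fst μ cc) ≫ m₀') ≫ b' := by rw [hz, g3']
  rw [hS K n z (l ≫ m) e g1 g2, hS' K n z (l ≫ m') e' g3 g4,
    val_congr hP₀ hQ hτ F rfl rfl rfl k1 g1 g2 (qq_hom n) g1' g2' (qq_hom n),
    val_congr hP₀ hQ hτ F' rfl rfl rfl k2 g3 g4 (qq_hom n) g3' g4' (qq_hom n)]
  have h2 := f0_eq F F' m₀ m₀' h₀ δ hδ h1 (pp n) z (l ≫ pullback.fst μ cc) g1' g2' g3' g4'
  rw [val, val, dif_congr hP₀ h2.symm rfl (f0_hom F (pp n) z _ g1' g2') (f0_hom F' (pp n) z _ g3' g4')]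

/-- **Second half of part B.** -/
theorem comes (hG : Glue.{u}) (R : Type u) [CommRing R] [IsLocalRing R] (hR : HenselianLocalRing R)
    (hRs : IsSepClosed (ResidueField R)) {X Z W T : Scheme.{u}} (p : Z ⟶ Spec (CommRingCat.of R)) (j : X ⟶ Z)
    (w : W ⟶ X) (t : T ⟶ Z) (hp : IsProper p) (ij : IsOpenImmersion j) (qj : QuasiCompact j)
    (iw : IsClosedImmersion w) (hT : AicCov j t) (G : Type) [Group G] [Finite G] (P₀ : FEt.Cat W)
    (ρ₀ : G →* Aut P₀) (hP₀ : SGA1t.IsPrincipal G P₀ ρ₀) (I : Type u) (B : I → Scheme.{u}) (b : ∀ i, B i ⟶ Z)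
    (F : ∀ i, FSol t j w P₀ ρ₀ (b i)) (_ : ∀ i, Etale (b i))
    (_ : ∀ z : Z, p z = closedPoint R → ∃ i, z ∈ Set.range (b i))
    (hcoh : ∀ i i' (y : ↥(pullback (b i) (b i'))), p (b i (pullback.fst (b i) (b i') y)) = closedPoint R →
      CohAt (F i) (F i') y)
    (Q : FEt.Cat X) (ρ : G →* Aut Q) (hQ : SGA1t.IsPrincipal G Q ρ) (τ : pullback j t ⟶ Q.left)
    (hτ : τ ≫ Q.hom = pullback.fst j t)
    (hc : ∀ z : Z, p z = closedPoint R → ∃ (i : I) (V : Scheme.{u}) (a : V ⟶ Z) (_ : Etale a) (v : V) (_ : a v = z)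
      (c : V ⟶ B i) (_ : c ≫ b i = a), ∀ (K : Type u) [Field K] [IsAlgClosed K]
      (x : Spec (CommRingCat.of K) ⟶ X) (z₁ z₂ : Spec (CommRingCat.of K) ⟶ T) (l : Spec (CommRingCat.of K) ⟶ V)
      (e : x ≫ j = (l ≫ c) ≫ b i) (e₁ : z₁ ≫ t = (l ≫ c) ≫ b i) (e₂ : z₂ ≫ t = (l ≫ c) ≫ b i) (g : G),
      xp j t (b i) x z₂ (l ≫ c) e e₂ ≫ (F i).τ = (xp j t (b i) x z₁ (l ≫ c) e e₁ ≫ (F i).τ) ≫
        ((F i).S.ρ g).hom.left →
      pullback.lift x z₂ (e.trans e₂.symm) ≫ τ = (pullback.lift x z₁ (e.trans e₁.symm) ≫ τ) ≫ (ρ g).hom.left) :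
    Comes w G P₀ ρ₀ := by
  let Pr : ∀ ⦃V : Scheme.{u}⦄ (a : V ⟶ Z), (↥(pullback (hh j w P₀ Q) a) → G) → Prop := fun V a s =>
    ∃ (i : I) (c : V ⟶ B i) (_ : c ≫ b i = a), PrAt hP₀ hQ hτ (F i) a c s
  have f1 : IsFinite P₀.hom := P₀.prop.1
  have f2 : IsFinite ((FEt.restrict w).obj Q).hom := ((FEt.restrict w).obj Q).prop.1
  have hqc : QuasiCompact (hh j w P₀ Q) := by
    rw [hh]
    infer_instance
  have hqs : QuasiSeparated (hh j w P₀ Q) := by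
    rw [hh]
    infer_instance
  obtain ⟨ε, hε, hloc⟩ := hG R hR hRs p hp (hh j w P₀ Q) hqc hqs G Pr (by
    intro z hz
    obtain ⟨i, V, a, ha, v, hv, c, hci, hC⟩ := hc z hz
    obtain ⟨s, hs, hs'⟩ := exists_sol hP₀ hQ hτ hT (F i) a c hci hC
    exact ⟨V, a, ha, v, hv, s, hs, i, c, hci, hs'⟩) (by
    rintro V V' a a' ha ha' s s' hs hs' ⟨i, c, hc₁, hS⟩ ⟨i', c', hc', hS'⟩ y hy
    refine pr_agree hP₀ hQ hτ hT (F i) (F i') a a' c c' hc₁ hc' s s' hS hS' y fun y₀ hy₀ => hcoh i i' y₀ ?_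
    rw [hy₀, hy])
  have hEq : IsEq ρ₀ (((FEt.restrict w).mapAut Q).comp ρ) ε := by
    intro K _ _ x y h c d h'
    let n : Spec (CommRingCat.of K) ⟶ NN w P₀ Q := pullback.lift x y h
    let n' : Spec (CommRingCat.of K) ⟶ NN w P₀ Q := pullback.lift _ _ h'
    have p1 : pp n = x := pullback.lift_fst _ _ _
    have p2 : pp n' = pp n ≫ (ρ₀ c).hom.left := by rw [p1]; exact pullback.lift_fst _ _ _
    have q1 : qq n' = qq n ≫ (ρ d).hom.left := by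
      have a1 : n' ≫ pullback.snd _ _ = y ≫ ((((FEt.restrict w).mapAut Q).comp ρ) d).hom.left := pullback.lift_snd _ _ _
      have a2 : n ≫ pullback.snd _ _ = y := pullback.lift_snd _ _ _
      have a3 : ((((FEt.restrict w).mapAut Q).comp ρ) d).hom.left ≫ Groth.Agent.Pi1A.FEtAffine.proj w Q =
          Groth.Agent.Pi1A.FEtAffine.proj w Q ≫ (ρ d).hom.left := pullback.lift_fst _ _ _
      rw [qq, qq, ← Category.assoc n', a1, ← Category.assoc n, a2, Category.assoc, a3, Category.assoc]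
    have hnn : n' ≫ hh j w P₀ Q = n ≫ hh j w P₀ Q := by
      rw [hh, ← Category.assoc n', ← Category.assoc n]
      change pp n' ≫ _ = pp n ≫ _
      rw [p2, Category.assoc, ← Category.assoc (ρ₀ c).hom.left, act_hom]
    obtain ⟨V, a, ha, v, hv, r, hr, ⟨i, cV, hcV, hS⟩, O, hO, hrs⟩ := hloc ((n ≫ hh j w P₀ Q) default)
    obtain ⟨l, hl, hlv⟩ := Scheme.exists_fac_of_etale_of_isSepClosed a (n ≫ hh j w P₀ Q) v hv
    have hl' : l ≫ a = n' ≫ hh j w P₀ Q := by rw [hnn, hl]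
    have hv1 : ∀ (n₀ : Spec (CommRingCat.of K) ⟶ NN w P₀ Q) (e : n₀ ≫ hh j w P₀ Q = l ≫ a),
        ε (n₀ default) = r (pullback.lift n₀ l e default) := by
      intro n₀ e
      have h1 := hrs (pullback.lift n₀ l e default) (by
        rw [← Scheme.Hom.comp_apply, pullback.lift_snd, hlv]
        exact hO)
      rw [← Scheme.Hom.comp_apply, pullback.lift_fst] at h1
      exact h1
    obtain ⟨z, hz⟩ := exists_pt_T hT (pp n ≫ P₀.hom ≫ w)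
    have g0 : (pp n ≫ P₀.hom ≫ w) ≫ j = n ≫ hh j w P₀ Q := by simp only [hh, pp, Category.assoc]
    have g1 : (pp n ≫ P₀.hom ≫ w) ≫ j = (l ≫ cV) ≫ b i := by rw [g0, Category.assoc, hcV, hl]
    have g2 : z ≫ t = (l ≫ cV) ≫ b i := by rw [hz, g1]
    have g0' : (pp n' ≫ P₀.hom ≫ w) ≫ j = n' ≫ hh j w P₀ Q := by simp only [hh, pp, Category.assoc]
    have g1' : (pp n' ≫ P₀.hom ≫ w) ≫ j = (l ≫ cV) ≫ b i := by rw [g0', Category.assoc, hcV, hl']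
    have e1 := hS K n z l hl.symm g1 g2
    have e2 := hS K n' z l hl'.symm g1' g2
    change ε (n' default) = c * ε (n default) * d⁻¹
    rw [hv1 n hl.symm, hv1 n' hl'.symm, e1, e2]
    have g3 : ((pp n ≫ (ρ₀ c).hom.left) ≫ P₀.hom ≫ w) ≫ j = (l ≫ cV) ≫ b i := by rw [← p2, g1']
    have g4 : (qq n ≫ (ρ d).hom.left) ≫ Q.hom = (pp n ≫ (ρ₀ c).hom.left) ≫ P₀.hom ≫ w := by
      rw [← p2, ← q1, qq_hom]
    rw [val_congr hP₀ hQ hτ (F i) p2 q1 rfl rfl g1' g2 (qq_hom n') g3 g2 g4]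
    exact val_act hP₀ hQ hτ (F i) (pp n) (qq n) z (l ≫ cV) g1 g2 (qq_hom n) c d g3 g4 default
  obtain ⟨e, he⟩ := exists_iso hP₀ (Groth.Agent.Pi1.H408.PrincRestrict.isPrincipal_restrict w Q ρ hQ) ε hε hEq
  exact ⟨Q, ρ, hQ, e, he⟩

end K158.PartB2
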