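import Mathlib.AlgebraicGeometry.Geometrically.Connected
import Mathlib.AlgebraicGeometry.Morphisms.Proper
import Mathlib.AlgebraicGeometry.Fiber

/-!
# Open-closed subsets along a proper surjective morphism with connected fibres
-/

set_option autoImplicit false
universe u
open CategoryTheory CategoryTheory.Limits AlgebraicGeometry

namespace K158.ClopenDesc

/-- An open-closed subset descends along a closed surjective map with preconnected fibres. -/
theorem exists_isClopen {X Y : Type*} [TopologicalSpace X] [TopologicalSpace Y] (p : X → Y)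
    (hp : Continuous p) (hcl : IsClosedMap p) (hs : Function.Surjective p)
    (hf : ∀ y, IsPreconnected (p ⁻¹' {y})) (U : Set X) (hU : IsClopen U) :
    ∃ W : Set Y, IsClopen W ∧ p ⁻¹' W = U := by
  have hdisj : ∀ y, y ∈ p '' U → y ∉ p '' Uᶜ := by
    rintro y ⟨a, ha, hay⟩ ⟨b, hb, hby⟩
    exact hb ((hf y).subset_isClopen hU ⟨a, hay, ha⟩ hby)
  have hc : (p '' U)ᶜ = p '' Uᶜ := by
    apply Set.Subset.antisymm
    · intro y hy
      obtain ⟨x, rfl⟩ := hs y
      refine ⟨x, fun hx => hy ⟨x, hx, rfl⟩, rfl⟩
    · intro y hy hy'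
      exact hdisj y hy' hy
  refine ⟨p '' U, ⟨hcl _ hU.isClosed, ?_⟩, ?_⟩
  · rw [← isClosed_compl_iff, hc]
    exact hcl _ hU.compl.isClosed
  · apply Set.Subset.antisymm
    · intro x hx
      by_contra hxU
      exact hdisj _ hx ⟨x, hxU, rfl⟩
    · exact Set.subset_preimage_image p U

/-- The scheme version. -/
theorem exists_isClopen_of_geometricallyConnected {X Y : Scheme.{u}} (p : X ⟶ Y) [IsProper p]
    [GeometricallyConnected p] (U : Set X) (hU : IsClopen U) :
    ∃ W : Set Y, IsClopen W ∧ p ⁻¹' W = U := by
  refine exists_isClopen p p.continuous p.isClosedMap p.surjective (fun y => ?_) U hU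
  rw [← p.range_fiberι y]
  exact isPreconnected_range (p.fiberι y).continuous

end K158.ClopenDesc
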