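import Groth.Agent.S2916
import Groth.Agent.S3574
import Groth.Agent.S3575
import Groth.Agent.S3576
import Groth.Agent.Pi1A.FEtGlue
import Mathlib.AlgebraicGeometry.Morphisms.Flat
import Mathlib.RingTheory.Flat.Basic

/-!
# The pointed cone over a projective scheme: restriction of finite étale covers is fully faithful
-/

set_option autoImplicit false
universe u

open CategoryTheory CategoryTheory.Limits AlgebraicGeometry TopologicalSpace

namespace K158.ConeGeo

open Groth.Agent Groth.Agent.Ega2.H285.ConeFibre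

/-- Full faithfulness of restriction of finite étale covers from the étale version. -/
theorem ff_of_bijective {S' S : Scheme.{u}} (g : S' ⟶ S)
    (h : ∀ (X Y : Over S) [Etale X.hom] [Etale Y.hom],
      Function.Bijective ((Over.pullback g).map : (X ⟶ Y) → _)) :
    (FEt.restrict g).Full ∧ (FEt.restrict g).Faithful := by
  refine ⟨⟨fun {Y Y'} ψ => ?_⟩, ⟨fun {Y Y'} φ φ' hφ => ?_⟩⟩
  · have h1 : Etale Y.toComma.hom := Y.prop.2
    have h2 : Etale Y'.toComma.hom := Y'.prop.2
    obtain ⟨φ, hφ⟩ := (h Y.toComma Y'.toComma).2 ψ.hom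
    refine ⟨MorphismProperty.Over.homMk φ.left (Over.w φ), ?_⟩
    ext1
    exact congrArg (fun f => f.left) hφ
  · have h1 : Etale Y.toComma.hom := Y.prop.2
    have h2 : Etale Y'.toComma.hom := Y'.prop.2
    have h3 : (Over.pullback g).map φ.hom = (Over.pullback g).map φ'.hom :=
      Over.OverMorphism.ext (congrArg (fun f => f.left) hφ)
    have h4 := (h Y.toComma Y'.toComma).1 h3
    ext1
    exact congrArg (fun f => f.left) h4

theorem univSubmersive {X Y : Scheme.{u}} (f : X ⟶ Y) [Flat f] [Surjective f] [QuasiCompact f] :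
    SGA1.UnivSubmersive f := by
  intro X' Y' i₁ i₂ f' H
  have h1 : Flat f' := MorphismProperty.of_isPullback H.flip ‹_›
  have h2 : Surjective f' := MorphismProperty.of_isPullback H.flip ‹_›
  have h3 : QuasiCompact f' := MorphismProperty.of_isPullback H.flip ‹_›
  exact Flat.isQuotientMap_of_surjective f'

section Cone

variable {k A : Type u} [CommRing k] [CommRing A] [Algebra k A] {𝒜 : ℕ → Submodule k A}
  [GradedAlgebra 𝒜]

/-- Modulo the ideal generated by the elements of degree one every element is a constant. -/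
theorem exists_sub_mem (hgen : Algebra.adjoin k (𝒜 1 : Set A) = ⊤) (a : A) :
    ∃ t : k, a - algebraMap k A t ∈ Ideal.span (𝒜 1 : Set A) := by
  have ha : a ∈ Algebra.adjoin k (𝒜 1 : Set A) := by rw [hgen]; trivial
  induction ha using Algebra.adjoin_induction with
  | mem x hx => exact ⟨0, by rw [map_zero, sub_zero]; exact Ideal.subset_span hx⟩
  | algebraMap r => exact ⟨r, by rw [sub_self]; exact Ideal.zero_mem _⟩
  | add x y _ _ hx hy =>
    obtain ⟨s, hs⟩ := hx
    obtain ⟨t, ht⟩ := hy
    refine ⟨s + t, ?_⟩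
    have : x + y - algebraMap k A (s + t) = (x - algebraMap k A s) + (y - algebraMap k A t) := by
      rw [map_add]; ring
    rw [this]
    exact Ideal.add_mem _ hs ht
  | mul x y _ _ hx hy =>
    obtain ⟨s, hs⟩ := hx
    obtain ⟨t, ht⟩ := hy
    refine ⟨s * t, ?_⟩
    have : x * y - algebraMap k A (s * t) =
        (x - algebraMap k A s) * y + algebraMap k A s * (y - algebraMap k A t) := by
      rw [map_mul]; ring
    rw [this]
    exact Ideal.add_mem _ (Ideal.mul_mem_right _ _ hs) (Ideal.mul_mem_left _ _ ht)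

theorem irrelevant_eq (hgen : Algebra.adjoin k (𝒜 1 : Set A) = ⊤) :
    (HomogeneousIdeal.irrelevant 𝒜).toIdeal = Ideal.span (𝒜 1 : Set A) := by
  have hle : Ideal.span (𝒜 1 : Set A) ≤ (HomogeneousIdeal.irrelevant 𝒜).toIdeal := by
    rw [Ideal.span_le]
    intro x hx
    change x ∈ (HomogeneousIdeal.irrelevant 𝒜).toIdeal
    rw [HomogeneousIdeal.mem_iff, HomogeneousIdeal.mem_irrelevant_iff, GradedRing.proj_apply,
      DirectSum.decompose_of_mem_ne 𝒜 hx one_ne_zero]
  refine le_antisymm ?_ hle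
  intro a ha
  obtain ⟨t, ht⟩ := exists_sub_mem hgen a
  have h1 : algebraMap k A t ∈ (HomogeneousIdeal.irrelevant 𝒜).toIdeal := by
    have : algebraMap k A t = a - (a - algebraMap k A t) := by ring
    rw [this]
    exact Ideal.sub_mem _ ha (hle ht)
  have h2 : algebraMap k A t = 0 := by
    rw [HomogeneousIdeal.mem_iff, HomogeneousIdeal.mem_irrelevant_iff, GradedRing.proj_apply] at h1
    rw [← h1]
    exact (DirectSum.decompose_of_mem_same 𝒜 (SetLike.algebraMap_mem_graded 𝒜 t)).symm
  rwa [h2, sub_zero] at ht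

variable {π : (Cone.pointed 𝒜 : Scheme.{u}) ⟶ Proj 𝒜}
    (hπ : ∀ (d : ℕ) (f : A) (hd : 0 < d) (hf : f ∈ 𝒜 d),
        Cone.chart hf hd ≫ π =
          Spec.map (CommRingCat.ofHom (algebraMap (HomogeneousLocalization.Away 𝒜 f) (Localization.Away f))) ≫
            Proj.awayι 𝒜 f hf hd)
    (hgen : (HomogeneousIdeal.irrelevant 𝒜).toIdeal = Ideal.span (𝒜 1 : Set A))

include hπ hgen

theorem flat : Flat π := by
  have hloc : ∀ (f : A) (hf : f ∈ 𝒜 1), Flat (awayMor 𝒜 f) := by
    intro f hf
    rw [← laurentIso_hom hf]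
    have : Flat (Spec.map (CommRingCat.ofHom
        (LaurentPolynomial.C : _ →+* LaurentPolynomial (HomogeneousLocalization.Away 𝒜 f)))) := by
      rw [HasRingHomProperty.Spec_iff (P := @Flat)]
      have : Module.Flat (HomogeneousLocalization.Away 𝒜 f)
        (LaurentPolynomial (HomogeneousLocalization.Away 𝒜 f)) := inferInstance
      exact (RingHom.flat_algebraMap_iff).mpr this
    infer_instance
  refine IsZariskiLocalAtSource.of_iSup_eq_top (P := @Flat)
    (fun f : 𝒜 1 => (Cone.chart (𝒜 := 𝒜) f.2 zero_lt_one).opensRange) ?_ ?_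
  · rw [eq_top_iff]
    intro x _
    obtain ⟨f, hf, hx⟩ := exists_chart_one hπ hgen x
    exact TopologicalSpace.Opens.mem_iSup.mpr ⟨⟨f, hf⟩, hx⟩
  · rintro ⟨f, hf⟩
    have := Groth.Agent.Ega2.H284.ConeBasic.isOpenImmersion_chart (𝒜 := 𝒜) hf zero_lt_one
    have h1 := hloc f hf
    have h2 : Flat (Cone.chart hf zero_lt_one ≫ π) := by
      rw [hπ 1 f zero_lt_one hf]; infer_instance
    have h3 : (Cone.chart (𝒜 := 𝒜) hf zero_lt_one).opensRange.ι =
        (Cone.chart (𝒜 := 𝒜) hf zero_lt_one).isoOpensRange.inv ≫ Cone.chart hf zero_lt_one := by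
      rw [Iso.eq_inv_comp, Scheme.Hom.isoOpensRange_hom_ι]
    change Flat ((Cone.chart (𝒜 := 𝒜) hf zero_lt_one).opensRange.ι ≫ π)
    rw [h3, Category.assoc]
    infer_instance

theorem connectedSpace (K : Type u) [Field K] (ξ : Spec (CommRingCat.of K) ⟶ Proj 𝒜) :
    ConnectedSpace ↑(pullback π ξ) := by
  let pt : Spec (CommRingCat.of K) := (⊥ : PrimeSpectrum K)
  have hpt : ∀ y : Spec (CommRingCat.of K), y = pt := fun y =>
    Subsingleton.elim (α := PrimeSpectrum K) y pt
  obtain ⟨f, hf, hx⟩ := exists_mem_one hπ hgen (ξ pt)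
  rw [← Proj.opensRange_awayι 𝒜 f hf zero_lt_one] at hx
  have hr : Set.range ξ ⊆ Set.range (Proj.awayι 𝒜 f hf zero_lt_one) := by
    rintro _ ⟨y, rfl⟩
    rw [hpt y]
    exact hx
  let g : Spec (CommRingCat.of K) ⟶ Spec (CommRingCat.of (HomogeneousLocalization.Away 𝒜 f)) :=
    IsOpenImmersion.lift (Proj.awayι 𝒜 f hf zero_lt_one) ξ hr
  have hg : g ≫ Proj.awayι 𝒜 f hf zero_lt_one = ξ := IsOpenImmersion.lift_fac _ _ _
  let φ := Spec.preimage g
  have hφ : Spec.map φ = g := Spec.map_preimage g
  have h1 := isPullback_awayMor hf φ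
  have h2 := isPullback_chart hπ zero_lt_one hf
  have h3 := h1.paste_horiz h2
  rw [hφ, hg] at h3
  have hirr : IrreducibleSpace (Spec (CommRingCat.of (LaurentPolynomial K))) :=
    inferInstanceAs (IrreducibleSpace (PrimeSpectrum (LaurentPolynomial K)))
  have hc : ConnectedSpace (Spec (CommRingCat.of (LaurentPolynomial K))) := inferInstance
  exact (Scheme.homeoOfIso h3.isoPullback).surjective.connectedSpace
    (Scheme.homeoOfIso h3.isoPullback).continuous

theorem fullyFaithful : (FEt.restrict π).Full ∧ (FEt.restrict π).Faithful := by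
  have h1 := flat hπ hgen
  have h2 : Surjective π := (Groth.Agent.S3575.result 𝒜 π hπ).2.1
  have h3 : QuasiCompact π := by
    have := (Groth.Agent.S3575.result 𝒜 π hπ).1
    infer_instance
  exact ff_of_bijective π (Groth.Agent.S2916.result π (univSubmersive π)
    (fun K _ _ ξ => connectedSpace hπ hgen K ξ)).2

end Cone

end K158.ConeGeo
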