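import Groth.Agent.S3574
import Groth.Agent.S3575
import Groth.Agent.S3576
import Groth.Agent.Pi1.K158.ConeGeo

/-!
# Invariance of the retraction of the pointed cone under homotheties
-/

set_option autoImplicit false
universe u

open CategoryTheory CategoryTheory.Limits AlgebraicGeometry TopologicalSpace

namespace K158.ConeInv

open Groth.Agent Groth.Agent.Ega2.H285.ConeFibre

variable {k A : Type u} [CommRing k] [CommRing A] [Algebra k A] {𝒜 : ℕ → Submodule k A}
  [GradedAlgebra 𝒜] {π : (Cone.pointed 𝒜 : Scheme.{u}) ⟶ Proj 𝒜}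
    (hπ : ∀ (d : ℕ) (f : A) (hd : 0 < d) (hf : f ∈ 𝒜 d),
        Cone.chart hf hd ≫ π =
          Spec.map (CommRingCat.ofHom (algebraMap (HomogeneousLocalization.Away 𝒜 f) (Localization.Away f))) ≫
            Proj.awayι 𝒜 f hf hd)

/-- The factorization of a morphism to the pointed cone through a chart. -/
theorem exists_fac {E : Type u} [CommRing E] (ρ : A →+* E) {d : ℕ} {f : A} (hf : f ∈ 𝒜 d)
    (hd : 0 < d) (hu : IsUnit (ρ f)) (g : Spec (CommRingCat.of E) ⟶ (Cone.pointed 𝒜 : Scheme.{u}))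
    (hg : g ≫ (Cone.pointed 𝒜).ι = Spec.map (CommRingCat.ofHom ρ)) :
    g = Spec.map (CommRingCat.ofHom (IsLocalization.Away.lift (S := Localization.Away f) f hu)) ≫
      Cone.chart hf hd := by
  rw [← cancel_mono (Cone.pointed 𝒜).ι, hg, Category.assoc, Cone.chart, IsOpenImmersion.lift_fac,
    ← Spec.map_comp]
  congr 1
  ext x
  exact (IsLocalization.Away.lift_eq f hu x).symm

include hπ

/-- `π` is invariant under homotheties, over affine schemes. -/
theorem inv_affine {E : Type u} [CommRing E] (ρ₁ ρ₂ : A →+* E) (t : E) (ht : IsUnit t)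
    (h : ∀ (n : ℕ) (a : A), a ∈ 𝒜 n → ρ₂ a = ρ₁ a * t ^ n) {f : A} (hf : f ∈ 𝒜 1)
    (hu : IsUnit (ρ₁ f)) (g₁ g₂ : Spec (CommRingCat.of E) ⟶ (Cone.pointed 𝒜 : Scheme.{u}))
    (hg₁ : g₁ ≫ (Cone.pointed 𝒜).ι = Spec.map (CommRingCat.ofHom ρ₁))
    (hg₂ : g₂ ≫ (Cone.pointed 𝒜).ι = Spec.map (CommRingCat.ofHom ρ₂)) : g₁ ≫ π = g₂ ≫ π := by
  have hu₂ : IsUnit (ρ₂ f) := by
    rw [h 1 f hf, pow_one]
    exact hu.mul ht
  rw [exists_fac ρ₁ hf zero_lt_one hu g₁ hg₁, exists_fac ρ₂ hf zero_lt_one hu₂ g₂ hg₂,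
    Category.assoc, Category.assoc, hπ 1 f zero_lt_one hf, ← Spec.map_comp_assoc,
    ← Spec.map_comp_assoc]
  congr 2
  ext z
  change IsLocalization.Away.lift f hu (algebraMap _ (Localization.Away f) z) =
    IsLocalization.Away.lift f hu₂ (algebraMap _ (Localization.Away f) z)
  obtain ⟨c, rfl⟩ := HomogeneousLocalization.mk_surjective z
  rw [HomogeneousLocalization.algebraMap_apply, HomogeneousLocalization.val_mk]
  have hw : algebraMap A (Localization.Away f) (c.den : A) *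
      Localization.mk (c.num : A) ⟨(c.den : A), c.den_mem⟩ =
        algebraMap A (Localization.Away f) (c.num : A) := by
    rw [Localization.mk_eq_mk', mul_comm]
    exact IsLocalization.mk'_spec (Localization.Away f) (c.num : A) ⟨(c.den : A), c.den_mem⟩
  set w : Localization.Away f := Localization.mk (c.num : A) ⟨(c.den : A), c.den_mem⟩
  have h1 : ρ₁ c.den * IsLocalization.Away.lift f hu w = ρ₁ c.num := by
    have := congrArg (IsLocalization.Away.lift f hu) hw
    rwa [map_mul, IsLocalization.Away.lift_eq, IsLocalization.Away.lift_eq] at this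
  have h2 : ρ₂ c.den * IsLocalization.Away.lift f hu₂ w = ρ₂ c.num := by
    have := congrArg (IsLocalization.Away.lift f hu₂) hw
    rwa [map_mul, IsLocalization.Away.lift_eq, IsLocalization.Away.lift_eq] at this
  have hden : IsUnit (ρ₂ c.den) := by
    obtain ⟨m, hm⟩ := c.den_mem
    rw [← hm, map_pow]
    exact hu₂.pow m
  apply hden.mul_left_cancel
  rw [h2, h _ _ c.num.2, h _ _ c.den.2, ← h1]
  ring

/-- `π` is invariant under homotheties. -/
theorem inv {Z : Scheme.{u}} {R : Type u} [CommRing R] (q : Z ⟶ Spec (CommRingCat.of R))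
    (hgen : (HomogeneousIdeal.irrelevant 𝒜).toIdeal = Ideal.span (𝒜 1 : Set A))
    (r₁ r₂ : A →+* R) (t : R) (h : ∀ (n : ℕ) (a : A), a ∈ 𝒜 n → r₂ a = r₁ a * t ^ n)
    (ht : ∀ z : Z, q z ∈ (PrimeSpectrum.basicOpen t : Set (PrimeSpectrum R)))
    (g₁ g₂ : Z ⟶ (Cone.pointed 𝒜 : Scheme.{u}))
    (hg₁ : g₁ ≫ (Cone.pointed 𝒜).ι = q ≫ Spec.map (CommRingCat.ofHom r₁))
    (hg₂ : g₂ ≫ (Cone.pointed 𝒜).ι = q ≫ Spec.map (CommRingCat.ofHom r₂)) :
    g₁ ≫ π = g₂ ≫ π := by
  have key : ∀ z : Z, ∃ V : Z.Opens, z ∈ V ∧ V.ι ≫ g₁ ≫ π = V.ι ≫ g₂ ≫ π := by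
    intro z
    have hz : (g₁ ≫ (Cone.pointed 𝒜).ι) z ∈ Cone.pointed 𝒜 := by
      rw [Scheme.Hom.comp_apply]
      exact (g₁ z).2
    have hex : ∃ f ∈ 𝒜 1, f ∉ ((g₁ ≫ (Cone.pointed 𝒜).ι) z : PrimeSpectrum A).asIdeal := by
      by_contra hcon
      push Not at hcon
      apply hz
      change _ ∈ PrimeSpectrum.zeroLocus _
      rw [PrimeSpectrum.mem_zeroLocus, hgen]
      exact Ideal.span_le.mpr fun f hf => hcon f hf
    obtain ⟨f, hf, hfz⟩ := hex
    let W : Z.Opens := (g₁ ≫ (Cone.pointed 𝒜).ι) ⁻¹ᵁ (PrimeSpectrum.basicOpen f)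
    have hzW : z ∈ W := hfz
    obtain ⟨V, hV, hzV, hVW⟩ := exists_isAffineOpen_mem_and_subset hzW
    refine ⟨V, hzV, ?_⟩
    rw [← cancel_epi hV.isoSpec.inv, IsAffineOpen.isoSpec_inv_ι_assoc,
      IsAffineOpen.isoSpec_inv_ι_assoc]
    let c : CommRingCat.of R ⟶ Γ(Z, V) := Spec.preimage (hV.fromSpec ≫ q)
    have hc : Spec.map c = hV.fromSpec ≫ q := Spec.map_preimage _
    have hu : IsUnit ((c.hom.comp r₁) f) := by
      by_contra hcon
      obtain ⟨m, hm, hfm⟩ := exists_max_ideal_of_mem_nonunits hcon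
      let p : PrimeSpectrum Γ(Z, V) := ⟨m, hm.isPrime⟩
      have hpV : hV.fromSpec p ∈ V := by
        have : hV.fromSpec p ∈ Set.range hV.fromSpec := ⟨p, rfl⟩
        rwa [IsAffineOpen.range_fromSpec] at this
      have h1 : (g₁ ≫ (Cone.pointed 𝒜).ι) (hV.fromSpec p) ∈ PrimeSpectrum.basicOpen f := hVW hpV
      rw [hg₁, ← Scheme.Hom.comp_apply, ← Category.assoc, ← hc, ← Spec.map_comp] at h1
      exact h1 hfm
    have htu : IsUnit (c.hom t) := by
      by_contra hcon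
      obtain ⟨m, hm, hfm⟩ := exists_max_ideal_of_mem_nonunits hcon
      let p : PrimeSpectrum Γ(Z, V) := ⟨m, hm.isPrime⟩
      have h1 := ht (hV.fromSpec p)
      rw [← Scheme.Hom.comp_apply, ← hc] at h1
      exact h1 hfm
    have := inv_affine hπ (E := Γ(Z, V)) (c.hom.comp r₁) (c.hom.comp r₂) (c.hom t) htu
      (fun n a ha => by simp [h n a ha]) hf hu (hV.fromSpec ≫ g₁) (hV.fromSpec ≫ g₂)
      (by
        rw [Category.assoc, hg₁, ← Category.assoc, ← hc, ← Spec.map_comp]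
        rfl)
      (by
        rw [Category.assoc, hg₂, ← Category.assoc, ← hc, ← Spec.map_comp]
        rfl)
    rw [Category.assoc, Category.assoc] at this
    exact this
  choose V hV hVeq using key
  let 𝒰 := Z.openCoverOfIsOpenCover V (by
    rw [TopologicalSpace.IsOpenCover, eq_top_iff]
    intro z _
    exact TopologicalSpace.Opens.mem_iSup.mpr ⟨z, hV z⟩)
  exact Scheme.Cover.hom_ext 𝒰 _ _ fun z => hVeq z

end K158.ConeInv
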