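import Groth.Prelude.Def_SGA2
import Groth.Agent.Pi1A.FEtGlue

/-!
# Pure pairs: elementary facts

* `isPurePair_of_isEquivalence`: the pair (Spec A, closed point), `A` local, is pure as soon as
  restriction of finite étale covers of `Spec A` to the punctured spectrum is an equivalence.
* `isEquivalence_ι`: conversely for any pure pair `(X, X - V)`.
-/

set_option autoImplicit false
universe u

open CategoryTheory CategoryTheory.Limits AlgebraicGeometry TopologicalSpace IsLocalRing

namespace K158.PurePair

open Groth.Agent Groth.Agent.Pi1A.FEtGlue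

/-- If restriction to the punctured spectrum is an equivalence then the pair formed by the
spectrum and its closed point is pure. -/
theorem isPurePair_of_isEquivalence (A : Type u) [CommRing A] [IsLocalRing A]
    (h : (FEt.restrict (FEt.puncturedSpec A).ι).IsEquivalence) :
    SGA2.IsPurePair (Spec (CommRingCat.of A)) (FEt.puncturedSpec A) := by
  intro V
  by_cases hV : (IsLocalRing.closedPoint A : Spec (CommRingCat.of A)) ∈ V
  · have hV' : V = ⊤ := (IsLocalRing.closedPoint_mem_iff (U := V)).1 hV
    subst hV'
    refine Groth.Agent.Pi1A.FEtGlue.isEquivalence_of_arrowIso ?_ h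
    refine Arrow.isoMk ((Spec (CommRingCat.of A)).isoOfEq (top_inf_eq (FEt.puncturedSpec A)))
      (Scheme.topIso _) ?_
    simp
  · have hle : V ≤ FEt.puncturedSpec A := by
      intro x hx hx'
      exact hV (by rw [← Set.mem_singleton_iff.1 hx']; exact hx)
    have heq : V ⊓ FEt.puncturedSpec A = V := inf_eq_left.2 hle
    have hiso : IsIso ((Spec (CommRingCat.of A)).homOfLE
        (inf_le_left : V ⊓ FEt.puncturedSpec A ≤ V)) := by
      have h1 : (Spec (CommRingCat.of A)).homOfLE (inf_le_left : V ⊓ FEt.puncturedSpec A ≤ V) =
        ((Spec (CommRingCat.of A)).isoOfEq heq).hom := by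
        rw [← cancel_mono V.ι]
        simp
      rw [h1]
      infer_instance
    infer_instance

/-- A pure pair gives an equivalence on the whole scheme. -/
theorem isEquivalence_ι {X : Scheme.{u}} (V : X.Opens) (h : SGA2.IsPurePair X V) :
    (FEt.restrict V.ι).IsEquivalence := by
  refine isEquivalence_of_arrowIso ?_ (h ⊤)
  refine (Arrow.isoMk (X.isoOfEq (top_inf_eq V)) (Scheme.topIso _) ?_).symm
  simp

end K158.PurePair
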