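import Groth.Agent.Pi1.K158.ConeRing
import Groth.Agent.Pi1.K158.ConeInv
import Groth.Agent.Pi1.K158.PurePair
import Groth.Agent.Ega2.H283.ConeRetr
import Groth.Agent.Pi1.H396.SplitGlue
import Groth.Agent.Lefpen.H416.Spl
import Mathlib.RingTheory.LocalRing.ResidueField.Ideal
import Mathlib.FieldTheory.IsSepClosed

/-!
# Purity at the vertex of a cone implies that the projective scheme is simply connected
-/

set_option autoImplicit false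
universe u

open CategoryTheory CategoryTheory.Limits AlgebraicGeometry TopologicalSpace

namespace K158.ConeMain

open Groth.Agent Groth.Agent.Pi1A.FEtAffine Groth.Agent.Pi1.H396.SplitGlue K158.ConeRing

variable {K A : Type u} [Field K] [CommRing A] [Algebra K A] (𝒜 : ℕ → Submodule K A)
  [GradedAlgebra 𝒜] (𝔪 : Ideal A) [h𝔪p : 𝔪.IsPrime]

/-- `Spec R ⟶ Spec A`, the projection. -/
noncomputable abbrev a : Spec (CommRingCat.of (R 𝒜 𝔪)) ⟶ Spec (CommRingCat.of A) :=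
  Spec.map (CommRingCat.ofHom (α 𝒜 𝔪))

/-- `Spec R ⟶ Spec A_𝔪`. -/
noncomputable abbrev b₀ : Spec (CommRingCat.of (R 𝒜 𝔪)) ⟶
    Spec (CommRingCat.of (Localization.AtPrime 𝔪)) :=
  Spec.map (CommRingCat.ofHom (βm 𝒜 𝔪))

/-- `Spec A_𝔪 ⟶ Spec A`. -/
noncomputable abbrev l : Spec (CommRingCat.of (Localization.AtPrime 𝔪)) ⟶ Spec (CommRingCat.of A) :=
  Spec.map (CommRingCat.ofHom (algebraMap A (Localization.AtPrime 𝔪)))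

variable (hirr : 𝔪 = (HomogeneousIdeal.irrelevant 𝒜).toIdeal)

include hirr in
theorem range_u : Set.range ((FEt.puncturedSpec (Localization.AtPrime 𝔪)).ι ≫ l 𝔪) ⊆
    Set.range (Cone.pointed 𝒜).ι := by
  rintro _ ⟨x, rfl⟩
  rw [Scheme.Opens.range_ι]
  intro hx
  apply x.2
  have hx' : (HomogeneousIdeal.irrelevant 𝒜).toIdeal ≤
    (x.1.asIdeal).comap (algebraMap A (Localization.AtPrime 𝔪)) := hx
  rw [← hirr, ← Ideal.map_le_iff_le_comap, Localization.AtPrime.map_eq_maximalIdeal] at hx'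
  have : x.1.asIdeal = IsLocalRing.maximalIdeal (Localization.AtPrime 𝔪) :=
    le_antisymm (IsLocalRing.le_maximalIdeal x.1.isPrime.ne_top) hx'
  exact PrimeSpectrum.ext this

/-- The punctured spectrum maps to the pointed cone. -/
noncomputable def u : (FEt.puncturedSpec (Localization.AtPrime 𝔪) : Scheme.{u}) ⟶
    (Cone.pointed 𝒜 : Scheme.{u}) :=
  IsOpenImmersion.lift (Cone.pointed 𝒜).ι ((FEt.puncturedSpec (Localization.AtPrime 𝔪)).ι ≫ l 𝔪)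
    (range_u 𝒜 𝔪 hirr)

theorem u_ι : u 𝒜 𝔪 hirr ≫ (Cone.pointed 𝒜).ι =
    (FEt.puncturedSpec (Localization.AtPrime 𝔪)).ι ≫ l 𝔪 :=
  IsOpenImmersion.lift_fac _ _ _

/-- The inverse image of the pointed cone. -/
noncomputable abbrev P : (Spec (CommRingCat.of (R 𝒜 𝔪))).Opens := a 𝒜 𝔪 ⁻¹ᵁ Cone.pointed 𝒜

/-- The locus where `λ` is invertible. -/
noncomputable abbrev Po : (P 𝒜 𝔪 : Scheme.{u}).Opens :=
  (P 𝒜 𝔪).ι ⁻¹ᵁ (PrimeSpectrum.basicOpen (lam 𝒜 𝔪))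

theorem mem_Po (y : (Po 𝒜 𝔪 : Scheme.{u})) :
    lam 𝒜 𝔪 ∉ (((Po 𝒜 𝔪).ι ≫ (P 𝒜 𝔪).ι) y : PrimeSpectrum (R 𝒜 𝔪)).asIdeal := by
  rw [Scheme.Hom.comp_apply]
  exact y.2

variable (hgen : (HomogeneousIdeal.irrelevant 𝒜).toIdeal = Ideal.span (𝒜 1 : Set A))

include hirr hgen in
theorem range_b : Set.range ((Po 𝒜 𝔪).ι ≫ (P 𝒜 𝔪).ι ≫ b₀ 𝒜 𝔪) ⊆
    Set.range (FEt.puncturedSpec (Localization.AtPrime 𝔪)).ι := by
  rintro _ ⟨y, rfl⟩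
  rw [Scheme.Opens.range_ι]
  intro hy
  have hyP : a 𝒜 𝔪 (((Po 𝒜 𝔪).ι ≫ (P 𝒜 𝔪).ι) y) ∈ Cone.pointed 𝒜 := by
    rw [Scheme.Hom.comp_apply]
    exact ((Po 𝒜 𝔪).ι y).2
  apply hyP
  have hlam := mem_Po 𝒜 𝔪 y
  set x := ((Po 𝒜 𝔪).ι ≫ (P 𝒜 𝔪).ι) y with hx
  change (HomogeneousIdeal.irrelevant 𝒜).toIdeal ≤ x.asIdeal.comap (α 𝒜 𝔪)
  rw [hgen, Ideal.span_le]
  intro f hf
  change α 𝒜 𝔪 f ∈ x.asIdeal
  have h1 : (b₀ 𝒜 𝔪 x) = IsLocalRing.closedPoint (Localization.AtPrime 𝔪) := by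
    rw [← Category.assoc, Scheme.Hom.comp_apply] at hy
    exact hy
  have h2 : x.asIdeal.comap (βm 𝒜 𝔪) = IsLocalRing.maximalIdeal (Localization.AtPrime 𝔪) :=
    congrArg PrimeSpectrum.asIdeal h1
  have hfm : f ∈ 𝔪 := by
    rw [hirr, hgen]
    exact Ideal.subset_span hf
  have h3 : algebraMap A (Localization.AtPrime 𝔪) f ∈
      IsLocalRing.maximalIdeal (Localization.AtPrime 𝔪) := by
    rw [← Localization.AtPrime.map_eq_maximalIdeal]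
    exact Ideal.mem_map_of_mem _ hfm
  rw [← h2, Ideal.mem_comap, βm_of_mem 𝒜 𝔪 hf, pow_one] at h3
  exact (x.isPrime.mem_or_mem h3).resolve_right hlam

/-- The map of the locus `λ ≠ 0` to the punctured spectrum. -/
noncomputable def b : (Po 𝒜 𝔪 : Scheme.{u}) ⟶
    (FEt.puncturedSpec (Localization.AtPrime 𝔪) : Scheme.{u}) :=
  IsOpenImmersion.lift (FEt.puncturedSpec (Localization.AtPrime 𝔪)).ι
    ((Po 𝒜 𝔪).ι ≫ (P 𝒜 𝔪).ι ≫ b₀ 𝒜 𝔪) (range_b 𝒜 𝔪 hirr hgen)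

theorem b_ι : b 𝒜 𝔪 hirr hgen ≫ (FEt.puncturedSpec (Localization.AtPrime 𝔪)).ι =
    (Po 𝒜 𝔪).ι ≫ (P 𝒜 𝔪).ι ≫ b₀ 𝒜 𝔪 :=
  IsOpenImmersion.lift_fac _ _ _

variable {π : (Cone.pointed 𝒜 : Scheme.{u}) ⟶ Proj 𝒜}
    (hπ : ∀ (d : ℕ) (f : A) (hd : 0 < d) (hf : f ∈ 𝒜 d),
        Cone.chart hf hd ≫ π =
          Spec.map (CommRingCat.ofHom (algebraMap (HomogeneousLocalization.Away 𝒜 f) (Localization.Away f))) ≫
            Proj.awayι 𝒜 f hf hd)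

include hπ in
theorem key : (Po 𝒜 𝔪).ι ≫ (a 𝒜 𝔪 ∣_ (Cone.pointed 𝒜)) ≫ π =
    b 𝒜 𝔪 hirr hgen ≫ u 𝒜 𝔪 hirr ≫ π := by
  have := ConeInv.inv hπ ((Po 𝒜 𝔪).ι ≫ (P 𝒜 𝔪).ι) hgen (α 𝒜 𝔪)
    ((βm 𝒜 𝔪).comp (algebraMap A (Localization.AtPrime 𝔪))) (lam 𝒜 𝔪)
    (fun n x hx => by
      rw [RingHom.comp_apply]
      exact βm_of_mem 𝒜 𝔪 hx)
    (mem_Po 𝒜 𝔪) ((Po 𝒜 𝔪).ι ≫ (a 𝒜 𝔪 ∣_ (Cone.pointed 𝒜)))
    (b 𝒜 𝔪 hirr hgen ≫ u 𝒜 𝔪 hirr)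
    (by rw [Category.assoc, Category.assoc, morphismRestrict_ι])
    (by
      rw [Category.assoc, u_ι, ← Category.assoc, b_ι, Category.assoc, Category.assoc,
        Category.assoc, ← Spec.map_comp]
      rfl)
  rw [Category.assoc, Category.assoc] at this
  exact this

section Split

variable (hA : ∀ a : A, ∃ t : K, a - algebraMap K A t ∈ Ideal.span (𝒜 1 : Set A))
  (h𝔪 : 𝔪 = Ideal.span (𝒜 1 : Set A))

theorem range_s : Set.range ((Cone.pointed 𝒜).ι ≫ Spec.map (CommRingCat.ofHom (σ 𝒜 𝔪 h𝔪 hA))) ⊆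
    Set.range (P 𝒜 𝔪).ι := by
  rintro _ ⟨x, rfl⟩
  rw [Scheme.Opens.range_ι]
  change a 𝒜 𝔪 _ ∈ Cone.pointed 𝒜
  rw [← Scheme.Hom.comp_apply, Category.assoc, ← Spec.map_comp]
  have : CommRingCat.ofHom (α 𝒜 𝔪) ≫ CommRingCat.ofHom (σ 𝒜 𝔪 h𝔪 hA) = 𝟙 (CommRingCat.of A) := by
    ext x
    exact σ_α 𝒜 𝔪 h𝔪 hA x
  rw [this, Spec.map_id, Category.comp_id]
  exact x.2

/-- The zero section. -/
noncomputable def s : (Cone.pointed 𝒜 : Scheme.{u}) ⟶ (P 𝒜 𝔪 : Scheme.{u}) :=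
  IsOpenImmersion.lift (P 𝒜 𝔪).ι
    ((Cone.pointed 𝒜).ι ≫ Spec.map (CommRingCat.ofHom (σ 𝒜 𝔪 h𝔪 hA))) (range_s 𝒜 𝔪 hA h𝔪)

theorem s_ι : s 𝒜 𝔪 hA h𝔪 ≫ (P 𝒜 𝔪).ι =
    (Cone.pointed 𝒜).ι ≫ Spec.map (CommRingCat.ofHom (σ 𝒜 𝔪 h𝔪 hA)) :=
  IsOpenImmersion.lift_fac _ _ _

theorem s_comp : s 𝒜 𝔪 hA h𝔪 ≫ (a 𝒜 𝔪 ∣_ (Cone.pointed 𝒜)) = 𝟙 _ := by
  rw [← cancel_mono (Cone.pointed 𝒜).ι, Category.assoc, morphismRestrict_ι, ← Category.assoc,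
    s_ι, Category.assoc, ← Spec.map_comp]
  have : CommRingCat.ofHom (α 𝒜 𝔪) ≫ CommRingCat.ofHom (σ 𝒜 𝔪 h𝔪 hA) = 𝟙 (CommRingCat.of A) := by
    ext x
    exact σ_α 𝒜 𝔪 h𝔪 hA x
  rw [this, Spec.map_id, Category.comp_id, Category.id_comp]

include h𝔪 hA in
theorem bijective_residue [𝔪.IsMaximal] :
    Function.Bijective ((algebraMap A 𝔪.ResidueField).comp (algebraMap K A)) := by
  refine ⟨RingHom.injective _, fun x => ?_⟩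
  obtain ⟨y, rfl⟩ := (Ideal.bijective_algebraMap_quotient_residueField 𝔪).2 x
  obtain ⟨y, rfl⟩ := Ideal.Quotient.mk_surjective y
  obtain ⟨t, ht⟩ := hA y
  rw [← h𝔪] at ht
  refine ⟨t, ?_⟩
  rw [RingHom.comp_apply, Ideal.Quotient.eq.2 ht]
  rfl

include hπ h𝔪 hA hgen in
/-- Purity at the vertex implies that the inverse image on the pointed cone of every finite
étale cover of `Proj` is split. -/
theorem isSplit_restrict_retr [𝔪.IsMaximal] [IsAlgClosed K]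
    (hpure : (FEt.restrict (FEt.puncturedSpec (Localization.AtPrime 𝔪)).ι).IsEquivalence)
    (Y : FEt.Cat (Proj 𝒜)) : Pi1.IsSplit ((FEt.restrict π).obj Y) := by
  have hirr : 𝔪 = (HomogeneousIdeal.irrelevant 𝒜).toIdeal := h𝔪.trans hgen.symm
  obtain ⟨Z0, ⟨i0⟩⟩ := hpure.essSurj.mem_essImage ((FEt.restrict (u 𝒜 𝔪 hirr ≫ π)).obj Y)
  let Y1 := (FEt.restrict ((a 𝒜 𝔪 ∣_ (Cone.pointed 𝒜)) ≫ π)).obj Y
  let Y2 := (FEt.restrict ((P 𝒜 𝔪).ι ≫ b₀ 𝒜 𝔪)).obj Z0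
  have hiso : Nonempty ((FEt.restrict (Po 𝒜 𝔪).ι).obj Y1 ≅ (FEt.restrict (Po 𝒜 𝔪).ι).obj Y2) :=
    ⟨(restrictComp (Po 𝒜 𝔪).ι ((a 𝒜 𝔪 ∣_ (Cone.pointed 𝒜)) ≫ π)).symm.app Y ≪≫
      (restrictCongr (key 𝒜 𝔪 hirr hgen hπ)).app Y ≪≫
      (restrictComp (b 𝒜 𝔪 hirr hgen) (u 𝒜 𝔪 hirr ≫ π)).app Y ≪≫
      (FEt.restrict (b 𝒜 𝔪 hirr hgen)).mapIso i0.symm ≪≫
      (restrictComp (b 𝒜 𝔪 hirr hgen) (FEt.puncturedSpec (Localization.AtPrime 𝔪)).ι).symm.app Z0 ≪≫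
      (restrictCongr (b_ι 𝒜 𝔪 hirr hgen)).app Z0 ≪≫
      (restrictComp (Po 𝒜 𝔪).ι ((P 𝒜 𝔪).ι ≫ b₀ 𝒜 𝔪)).app Z0⟩
  obtain ⟨iso1⟩ := hiso
  obtain ⟨hfull, hfaith⟩ := LamExt.fullyFaithful (lamData 𝒜 𝔪 h𝔪 hA) (P 𝒜 𝔪).ι (Po 𝒜 𝔪) rfl
  let iso2 : Y1 ≅ Y2 := (Functor.FullyFaithful.ofFullyFaithful (FEt.restrict (Po 𝒜 𝔪).ι)).preimageIso iso1
  let res : Localization.AtPrime 𝔪 →+* 𝔪.ResidueField := IsLocalRing.residue _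
  let ψ : 𝔪.ResidueField →+* A := Ideal.Quotient.lift _ ((σ 𝒜 𝔪 h𝔪 hA).comp (βm 𝒜 𝔪))
    (fun x hx => σ_βm_of_mem 𝒜 𝔪 h𝔪 hA x hx)
  have hψ : ψ.comp res = (σ 𝒜 𝔪 h𝔪 hA).comp (βm 𝒜 𝔪) := by
    ext x
    rfl
  have hcomp : s 𝒜 𝔪 hA h𝔪 ≫ (P 𝒜 𝔪).ι ≫ b₀ 𝒜 𝔪 =
      ((Cone.pointed 𝒜).ι ≫ Spec.map (CommRingCat.ofHom ψ)) ≫ Spec.map (CommRingCat.ofHom res) := by
    rw [← Category.assoc, s_ι, Category.assoc, Category.assoc, ← Spec.map_comp, ← Spec.map_comp,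
      ← CommRingCat.ofHom_comp, ← CommRingCat.ofHom_comp, hψ]
  have hcomp' : s 𝒜 𝔪 hA h𝔪 ≫ (a 𝒜 𝔪 ∣_ (Cone.pointed 𝒜)) ≫ π = π := by
    rw [← Category.assoc, s_comp, Category.id_comp]
  have iso3 : (FEt.restrict π).obj Y ≅
      (FEt.restrict ((Cone.pointed 𝒜).ι ≫ Spec.map (CommRingCat.ofHom ψ))).obj
        ((FEt.restrict (Spec.map (CommRingCat.ofHom res))).obj Z0) :=
    (restrictCongr hcomp').symm.app Y ≪≫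
      (restrictComp (s 𝒜 𝔪 hA h𝔪) ((a 𝒜 𝔪 ∣_ (Cone.pointed 𝒜)) ≫ π)).app Y ≪≫
      (FEt.restrict (s 𝒜 𝔪 hA h𝔪)).mapIso iso2 ≪≫
      (restrictComp (s 𝒜 𝔪 hA h𝔪) ((P 𝒜 𝔪).ι ≫ b₀ 𝒜 𝔪)).symm.app Z0 ≪≫
      (restrictCongr hcomp).app Z0 ≪≫
      (restrictComp ((Cone.pointed 𝒜).ι ≫ Spec.map (CommRingCat.ofHom ψ))
        (Spec.map (CommRingCat.ofHom res))).app Z0
  have hac : IsAlgClosed 𝔪.ResidueField :=
    IsAlgClosed.of_ringEquiv K 𝔪.ResidueField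
      (RingEquiv.ofBijective _ (bijective_residue 𝒜 𝔪 hA h𝔪))
  have hsc : IsSepClosed 𝔪.ResidueField := inferInstance
  exact isSplit_of_iso iso3 (isSplit_restrict _ _
    (Groth.Agent.Lefpen.H416.Spl.isSplit_of_isSepClosed (K := 𝔪.ResidueField) _))

end Split

end K158.ConeMain
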