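import Groth.Agent.Pi1.K158.LamExt
import Mathlib.RingTheory.GradedAlgebra.Basic
import Mathlib.RingTheory.GradedAlgebra.Homogeneous.Ideal
import Mathlib.RingTheory.Localization.AtPrime.Basic

/-!
# The degeneration of a graded ring to its vertex
-/

set_option autoImplicit false
universe u

open Polynomial

namespace K158.ConeRing

variable {k A : Type u} [CommRing k] [CommRing A] [Algebra k A] (𝒜 : ℕ → Submodule k A)
  [GradedAlgebra 𝒜]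

/-- The ring homomorphism `a ↦ ∑ aₙ Xⁿ`. -/
noncomputable def β : A →+* A[X] :=
  (DirectSum.toSemiring (fun n => ((monomial n : A →ₗ[A] A[X]).toAddMonoidHom).comp
    (𝒜 n).subtype.toAddMonoidHom) (by
      change monomial 0 (1 : A) = 1
      rfl) (by
      intro i j a b
      change monomial (i + j) ((a : A) * (b : A)) = monomial i (a : A) * monomial j (b : A)
      rw [monomial_mul_monomial])).comp
    (DirectSum.decomposeRingEquiv 𝒜 : A →+* _)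

theorem β_of_mem {n : ℕ} {a : A} (ha : a ∈ 𝒜 n) : β 𝒜 a = C a * X ^ n := by
  have h1 : DirectSum.decompose 𝒜 a = DirectSum.of (fun i => 𝒜 i) n ⟨a, ha⟩ :=
    DirectSum.decompose_of_mem 𝒜 ha
  rw [β, RingHom.comp_apply]
  change (DirectSum.toAddMonoid _) (DirectSum.decompose 𝒜 a) = _
  rw [h1, DirectSum.toAddMonoid_of]
  change monomial n a = _
  rw [C_mul_X_pow_eq_monomial]

section

variable (𝔪 : Ideal A) [h𝔪p : 𝔪.IsPrime]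

/-- The localization of `A[λ]` at the image of `A ∖ 𝔪`. -/
abbrev R : Type u := Localization (𝔪.primeCompl.map (β 𝒜))

/-- The inclusion of constants. -/
noncomputable def α : A →+* R 𝒜 𝔪 := (algebraMap A[X] (R 𝒜 𝔪)).comp C

/-- The parameter. -/
noncomputable def lam : R 𝒜 𝔪 := algebraMap A[X] (R 𝒜 𝔪) X

/-- The map `A_𝔪 → R` extending `a ↦ ∑ aₙ λⁿ`. -/
noncomputable def βm : Localization.AtPrime 𝔪 →+* R 𝒜 𝔪 :=
  IsLocalization.lift (M := 𝔪.primeCompl) (g := (algebraMap A[X] (R 𝒜 𝔪)).comp (β 𝒜))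
    (fun s => IsLocalization.map_units (M := 𝔪.primeCompl.map (β 𝒜)) (R 𝒜 𝔪)
      ⟨β 𝒜 s, Submonoid.mem_map_of_mem (β 𝒜) s.2⟩)

theorem βm_algebraMap (a : A) :
    βm 𝒜 𝔪 (algebraMap A (Localization.AtPrime 𝔪) a) = algebraMap A[X] (R 𝒜 𝔪) (β 𝒜 a) :=
  IsLocalization.lift_eq _ _

theorem βm_of_mem {n : ℕ} {a : A} (ha : a ∈ 𝒜 n) :
    βm 𝒜 𝔪 (algebraMap A (Localization.AtPrime 𝔪) a) = α 𝒜 𝔪 a * lam 𝒜 𝔪 ^ n := by
  rw [βm_algebraMap, β_of_mem 𝒜 ha, map_mul, map_pow]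
  rfl

theorem lam_reg (x : R 𝒜 𝔪) (hx : lam 𝒜 𝔪 * x = 0) : x = 0 := by
  have h1 : IsSMulRegular A[X] (X : A[X]) := by
    rw [isSMulRegular_iff_right_eq_zero_of_smul]
    intro p hp
    rw [smul_eq_mul] at hp
    exact (monic_X (R := A)).isRegular.left (by simpa using hp)
  have hflat : Module.Flat A[X] (R 𝒜 𝔪) := IsLocalization.flat _ (𝔪.primeCompl.map (β 𝒜))
  have h2 : IsSMulRegular (R 𝒜 𝔪) (algebraMap A[X] (R 𝒜 𝔪) X) := h1.of_flat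
  rw [isSMulRegular_iff_right_eq_zero_of_smul] at h2
  exact h2 x hx

end

section Field

variable {K A : Type u} [Field K] [CommRing A] [Algebra K A] (𝒜 : ℕ → Submodule K A)
  [GradedAlgebra 𝒜] (𝔪 : Ideal A) [h𝔪p : 𝔪.IsPrime] (h𝔪 : 𝔪 = Ideal.span (𝒜 1 : Set A))
  (hA : ∀ a : A, ∃ t : K, a - algebraMap K A t ∈ Ideal.span (𝒜 1 : Set A))

include h𝔪

theorem eval_β_of_mem {a : A} (ha : a ∈ 𝔪) : (β 𝒜 a).eval 0 = 0 := by
  have : 𝔪 ≤ RingHom.ker ((evalRingHom (0 : A)).comp (β 𝒜)) := by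
    rw [h𝔪, Ideal.span_le]
    intro x hx
    change (β 𝒜 x).eval 0 = 0
    rw [β_of_mem 𝒜 hx]
    simp
  exact this ha

include hA

theorem isUnit_eval_β {a : A} (ha : a ∉ 𝔪) : IsUnit ((β 𝒜 a).eval 0) := by
  obtain ⟨t, ht⟩ := hA a
  rw [← h𝔪] at ht
  have h1 := eval_β_of_mem 𝒜 𝔪 h𝔪 ht
  rw [map_sub, eval_sub, β_of_mem 𝒜 (SetLike.algebraMap_mem_graded 𝒜 t), sub_eq_zero] at h1
  rw [h1]
  have ht0 : t ≠ 0 := by
    rintro rfl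
    rw [map_zero, sub_zero] at ht
    exact ha ht
  simpa using (IsUnit.mk0 t ht0).map (algebraMap K A)

/-- Evaluation at `λ = 0`. -/
noncomputable def σ : R 𝒜 𝔪 →+* A :=
  IsLocalization.lift (M := 𝔪.primeCompl.map (β 𝒜)) (g := evalRingHom (0 : A)) (by
    rintro ⟨_, a, ha, rfl⟩
    exact isUnit_eval_β 𝒜 𝔪 h𝔪 hA ha)

theorem σ_algebraMap (p : A[X]) : σ 𝒜 𝔪 h𝔪 hA (algebraMap A[X] (R 𝒜 𝔪) p) = p.eval 0 :=
  IsLocalization.lift_eq _ _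

theorem σ_α (a : A) : σ 𝒜 𝔪 h𝔪 hA (α 𝒜 𝔪 a) = a := by
  rw [α, RingHom.comp_apply, σ_algebraMap]
  simp

theorem σ_lam : σ 𝒜 𝔪 h𝔪 hA (lam 𝒜 𝔪) = 0 := by
  rw [lam, σ_algebraMap]
  simp

theorem mem_span_of_σ (x : R 𝒜 𝔪) (hx : σ 𝒜 𝔪 h𝔪 hA x = 0) : x ∈ Ideal.span {lam 𝒜 𝔪} := by
  obtain ⟨p, s, rfl⟩ := IsLocalization.exists_mk'_eq (𝔪.primeCompl.map (β 𝒜)) x
  rw [σ, IsLocalization.lift_mk'_spec] at hx
  have hp : p.eval 0 = 0 := by simpa using hx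
  obtain ⟨q, rfl⟩ : X ∣ p := by
    rw [Polynomial.X_dvd_iff, Polynomial.coeff_zero_eq_eval_zero]
    exact hp
  rw [Ideal.mem_span_singleton']
  refine ⟨IsLocalization.mk' _ q s, ?_⟩
  rw [mul_comm, lam, IsLocalization.mul_mk'_eq_mk'_of_mul]

theorem lamData : LamExt.LamData (R 𝒜 𝔪) (lam 𝒜 𝔪) :=
  LamExt.LamData.of_retraction _ (lam_reg 𝒜 𝔪) (σ 𝒜 𝔪 h𝔪 hA) (α 𝒜 𝔪) (σ_α 𝒜 𝔪 h𝔪 hA)
    (mem_span_of_σ 𝒜 𝔪 h𝔪 hA) (σ_lam 𝒜 𝔪 h𝔪 hA)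

theorem σ_βm_of_mem (x : Localization.AtPrime 𝔪)
    (hx : x ∈ IsLocalRing.maximalIdeal (Localization.AtPrime 𝔪)) :
    σ 𝒜 𝔪 h𝔪 hA (βm 𝒜 𝔪 x) = 0 := by
  have h1 : IsLocalRing.maximalIdeal (Localization.AtPrime 𝔪) ≤
      RingHom.ker ((σ 𝒜 𝔪 h𝔪 hA).comp (βm 𝒜 𝔪)) := by
    rw [← Localization.AtPrime.map_eq_maximalIdeal, Ideal.map_le_iff_le_comap]
    intro a ha
    change σ 𝒜 𝔪 h𝔪 hA (βm 𝒜 𝔪 (algebraMap A _ a)) = 0
    rw [βm_algebraMap, σ_algebraMap]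
    exact eval_β_of_mem 𝒜 𝔪 h𝔪 ha
  exact h1 hx

end Field

end K158.ConeRing
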