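import Mathlib.CategoryTheory.Action.Continuous
import Mathlib.CategoryTheory.Action.Concrete
import Mathlib.CategoryTheory.Galois.Topology
import Mathlib.Topology.Category.FinTopCat
import Mathlib.Topology.Algebra.Group.Basic
import Mathlib.Topology.Algebra.OpenSubgroup
import Mathlib.GroupTheory.Index

/-!
# Automorphisms of the forgetful functor on finite continuous `G`-sets
-/

set_option autoImplicit false
universe u
open scoped FintypeCatDiscrete
open CategoryTheory

namespace K158.ContGSet

variable (G : Type u) [Group G] [TopologicalSpace G]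

/-- The forgetful functor on finite continuous `G`-sets. -/
abbrev F : ContAction FintypeCat.{u} G ⥤ FintypeCat.{u} :=
  forget₂ (ContAction FintypeCat.{u} G) FintypeCat.{u}

/-- The canonical map `G → Aut F`. -/
noncomputable def iota : G →* Aut (F G) where
  toFun g := NatIso.ofComponents (fun X => X.obj.ρAut g) (fun {X Y} f => (f.hom.comm g).symm)
  map_one' := by
    ext X x
    change (X.obj.ρ 1).hom x = x
    rw [map_one]
    rfl
  map_mul' a b := by
    ext X x
    change (X.obj.ρ (a * b)).hom x = (X.obj.ρ a).hom ((X.obj.ρ b).hom x)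
    rw [map_mul]
    rfl

theorem iota_app (g : G) (X : ContAction FintypeCat.{u} G) (x : X.obj.V) :
    (iota G g).hom.app X x = (X.obj.ρ g).hom x := rfl

variable {G}

/-- The locus where `g` sends `x` to `y` is open. -/
theorem isOpen_setOf_smul_eq (X : ContAction FintypeCat.{u} G) (x y : X.obj.V) :
    IsOpen {g : G | (X.obj.ρ g).hom x = y} := by
  have h : Continuous (fun p : G × X.obj.V => (X.obj.ρ p.1).hom p.2) := X.property.1
  have h2 : Continuous (fun g : G => (X.obj.ρ g).hom x) :=
    h.comp (Continuous.prodMk continuous_id continuous_const)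
  exact (isOpen_discrete ({y} : Set X.obj.V)).preimage h2

open scoped CategoryTheory.PreGaloisCategory in
theorem continuous_iota : Continuous (iota G) := by
  refine continuous_induced_rng.2 (continuous_pi fun X => ?_)
  rw [continuous_discrete_rng]
  intro b
  have : ((fun g => (⇑(PreGaloisCategory.autEmbedding (F G)) ∘ ⇑(iota G)) g X) ⁻¹' {b} : Set G) =
      ⋂ x : X.obj.V, {g : G | (X.obj.ρ g).hom x = b.hom x} := by
    ext g
    simp only [Set.mem_preimage, Set.mem_singleton_iff, Set.mem_iInter, Set.mem_setOf_eq]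
    constructor
    · rintro rfl x
      rfl
    · intro h
      ext x
      exact h x
  rw [this]
  exact isOpen_iInter_of_finite fun x => isOpen_setOf_smul_eq X x _

/-- A finite continuous `G`-set. -/
noncomputable def mk (Y : FintypeCat.{u}) [MulAction G Y]
    (h : ∀ y z : Y, IsOpen {g : G | g • y = z}) : ContAction FintypeCat.{u} G :=
  ⟨Action.FintypeCat.ofMulAction G Y, ⟨by
    change Continuous (fun p : G × Y => p.1 • p.2)
    rw [continuous_discrete_rng]
    intro z
    have : ((fun p : G × Y => p.1 • p.2) ⁻¹' {z}) = ⋃ y : Y, {g : G | g • y = z} ×ˢ {y} := by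
      ext ⟨g, y⟩
      simp
    rw [this]
    exact isOpen_iUnion fun y => (h y z).prod (isOpen_discrete _)⟩⟩


/-- A homomorphism of finite continuous `G`-sets. -/
noncomputable def mkHom (Y : FintypeCat.{u}) [MulAction G Y]
    (h : ∀ y z : Y, IsOpen {g : G | g • y = z}) (X : ContAction FintypeCat.{u} G)
    (f : Y → X.obj.V) (hf : ∀ (g : G) (y : Y), f (g • y) = (X.obj.ρ g).hom (f y)) :
    mk Y h ⟶ X :=
  ObjectProperty.homMk
    { hom := FintypeCat.homMk f
      comm := fun g => by
        ext y
        exact hf g y }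

theorem naturality (σ : Aut (F G)) {X Y : ContAction FintypeCat.{u} G} (f : X ⟶ Y) (x : X.obj.V) :
    σ.hom.app Y (f.hom.hom x) = f.hom.hom (σ.hom.app X x) :=
  ConcreteCategory.congr_hom (σ.hom.naturality f) x

variable [IsTopologicalGroup G]

/-- Finitely many components of an automorphism are given by one element of the group. -/
theorem exists_eq (σ : Aut (F G)) (I : Finset (ContAction FintypeCat.{u} G)) :
    ∃ g : G, ∀ X ∈ I, σ.app X = (iota G g).app X := by
  classical
  -- the joint kernel
  let N : Subgroup G := ⨅ X : I, (X.1.obj.ρAut).ker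
  have hNn : N.Normal := Subgroup.normal_iInf_normal fun X => inferInstance
  have hker : ∀ X : ContAction FintypeCat.{u} G, IsOpen ((X.obj.ρAut).ker : Set G) := by
    intro X
    have : ((X.obj.ρAut).ker : Set G) = ⋂ x : X.obj.V, {g : G | (X.obj.ρ g).hom x = x} := by
      ext g
      simp only [SetLike.mem_coe, MonoidHom.mem_ker, Set.mem_iInter, Set.mem_setOf_eq]
      constructor
      · intro h x
        exact congrArg (fun φ : Aut X.obj.V => φ.hom x) h
      · intro h
        ext x
        exact h x
    rw [this]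
    exact isOpen_iInter_of_finite fun x => isOpen_setOf_smul_eq X x _
  have hNo : IsOpen (N : Set G) := by
    have : (N : Set G) = ⋂ X : I, ((X.1.obj.ρAut).ker : Set G) := by
      simp only [N, Subgroup.coe_iInf]
    rw [this]
    exact isOpen_iInter_of_finite fun X => hker X.1
  have hNf : N.FiniteIndex := by
    refine Subgroup.finiteIndex_iInf fun X => ?_
    have : Finite (Aut X.1.obj.V) :=
      Finite.of_injective (fun φ : Aut X.1.obj.V => fun x : X.1.obj.V => φ.hom x) (by
        intro φ ψ h
        ext x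
        exact congrFun h x)
    exact Subgroup.finiteIndex_ker _
  haveI : Fintype (G ⧸ N) := Fintype.ofFinite _
  let Y : FintypeCat.{u} := FintypeCat.of (G ⧸ N)
  letI : MulAction G Y := inferInstanceAs (MulAction G (G ⧸ N))
  have hY : ∀ y z : Y, IsOpen {g : G | g • y = z} := by
    intro y z
    obtain ⟨a, rfl⟩ := QuotientGroup.mk_surjective (s := N) y
    obtain ⟨b, rfl⟩ := QuotientGroup.mk_surjective (s := N) z
    have : {g : G | g • (QuotientGroup.mk a : G ⧸ N) = QuotientGroup.mk b} =
        (fun g => (g * a)⁻¹ * b) ⁻¹' (N : Set G) := by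
      ext g
      simp only [Set.mem_setOf_eq, Set.mem_preimage, SetLike.mem_coe]
      exact QuotientGroup.eq
    change IsOpen {g : G | g • (QuotientGroup.mk a : G ⧸ N) = QuotientGroup.mk b}
    rw [this]
    exact hNo.preimage (by fun_prop)
  obtain ⟨g, hg⟩ := QuotientGroup.mk_surjective (s := N) ((σ.hom.app (mk Y hY)) ((1 : G) : G ⧸ N))
  refine ⟨g, fun X hX => ?_⟩
  ext x
  let f : mk Y hY ⟶ X := mkHom Y hY X
    (fun y => Quotient.liftOn' y (fun a => (X.obj.ρ a).hom x) (by
      intro a b hab
      have h1 : a⁻¹ * b ∈ N := QuotientGroup.leftRel_apply.1 hab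
      have h2 : a⁻¹ * b ∈ (X.obj.ρAut).ker := (Subgroup.mem_iInf.1 h1) ⟨X, hX⟩
      have h3 : (X.obj.ρ (a⁻¹ * b)).hom x = x := congrArg (fun φ : Aut X.obj.V => φ.hom x) h2
      have h4 : (X.obj.ρ b).hom x = (X.obj.ρ (a * (a⁻¹ * b))).hom x := by
        rw [mul_inv_cancel_left]
      change (X.obj.ρ a).hom x = (X.obj.ρ b).hom x
      rw [h4, map_mul]
      exact (congrArg (X.obj.ρ a).hom h3).symm)) (by
      intro g y
      obtain ⟨a, rfl⟩ := QuotientGroup.mk_surjective (s := N) y
      change (X.obj.ρ (g * a)).hom x = (X.obj.ρ g).hom ((X.obj.ρ a).hom x)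
      rw [map_mul]
      rfl)
  have h1 := naturality σ f ((1 : G) : G ⧸ N)
  have h2 : f.hom.hom ((1 : G) : G ⧸ N) = x := by
    change (X.obj.ρ 1).hom x = x
    rw [map_one]
    rfl
  rw [h2, ← hg] at h1
  exact h1

open scoped CategoryTheory.PreGaloisCategory in
theorem denseRange_iota : DenseRange (iota G) := by
  intro σ
  rw [mem_closure_iff]
  rintro o ⟨O, hO, rfl⟩ hσ
  obtain ⟨I, u, hu, hIO⟩ := isOpen_pi_iff.1 hO _ hσ
  obtain ⟨g, hg⟩ := exists_eq σ I
  refine ⟨iota G g, hIO fun X hX => ?_, ⟨g, rfl⟩⟩
  have := (hu X hX).2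
  rw [PreGaloisCategory.autEmbedding_apply] at this ⊢
  rwa [hg X hX] at this

open scoped CategoryTheory.PreGaloisCategory in
theorem exists_unique_lift (Q : Type u) [Group Q] [Finite Q] [TopologicalSpace Q] [DiscreteTopology Q]
    (π : G →* Q) (hπ : Continuous π) : ∃! ψ : Aut (F G) →* Q, Continuous ψ ∧ ψ.comp (iota G) = π := by
  classical
  haveI : Fintype Q := Fintype.ofFinite Q
  let Y : FintypeCat.{u} := FintypeCat.of Q
  letI : MulAction G Y := MulAction.compHom Q π
  have hY : ∀ y z : Y, IsOpen {g : G | g • y = z} := by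
    intro y z
    exact (isOpen_discrete ({a : Q | a * y = z} : Set Q)).preimage hπ
  -- right multiplications
  let r : Q → (mk Y hY ⟶ mk Y hY) := fun q => mkHom Y hY (mk Y hY) (fun y : Q => (y * q : Q)) (by
    intro g y
    change (π g * y : Q) * q = π g * (y * q : Q)
    rw [mul_assoc])
  let ev : Aut (F G) → Q := fun σ => σ.hom.app (mk Y hY) (1 : Q)
  have hmul : ∀ (σ : Aut (F G)) (q : Q), σ.hom.app (mk Y hY) q = (ev σ * q : Q) := by
    intro σ q
    have h1 := naturality σ (r q) (1 : Q)
    have h2 : (r q).hom.hom (1 : Q) = q := one_mul q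
    rw [h2] at h1
    exact h1
  let ψ : Aut (F G) →* Q :=
    { toFun := ev
      map_one' := rfl
      map_mul' := fun σ τ => by
        exact hmul σ (ev τ) }
  have hψc : Continuous ψ := by
    have h1 : Continuous (fun σ : Aut (F G) => PreGaloisCategory.autEmbedding (F G) σ (mk Y hY)) :=
      (continuous_apply (mk Y hY)).comp continuous_induced_dom
    have h2 : Continuous (fun φ : Aut ((F G).obj (mk Y hY)) => (show Q from φ.hom (1 : Q))) :=
      continuous_of_discreteTopology
    exact h2.comp h1
  have hψι : ψ.comp (iota G) = π := by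
    ext g
    change (π g * 1 : Q) = π g
    rw [mul_one]
  refine ⟨ψ, ⟨hψc, hψι⟩, ?_⟩
  rintro ψ' ⟨hc, hι⟩
  have h3 : (ψ' : Aut (F G) → Q) = ψ := by
    refine denseRange_iota.equalizer hc hψc ?_
    ext g
    have h4 := DFunLike.congr_fun hι g
    have h5 := DFunLike.congr_fun hψι g
    exact h4.trans h5.symm
  exact DFunLike.coe_injective h3

end K158.ContGSet
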