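import Mathlib.Topology.Algebra.Category.ProfiniteGrp.Completion
import Mathlib.CategoryTheory.Galois.Topology
import Mathlib.CategoryTheory.Galois.Examples
import Mathlib.Topology.Algebra.ContinuousMonoidHom
import Mathlib.CategoryTheory.Action.Concrete

/-!
# Automorphisms of the forgetful functor on finite `G`-sets and the profinite completion
-/

set_option autoImplicit false
universe u
open CategoryTheory

namespace K158.FinGSet

variable (G : Type u) [Group G]

/-- The forgetful functor on finite `G`-sets. -/
abbrev F : Action FintypeCat.{u} G ⥤ FintypeCat.{u} := Action.forget FintypeCat.{u} G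

/-- The canonical map `G → Aut F`. -/
noncomputable def iota : G →* Aut (F G) where
  toFun g := NatIso.ofComponents (fun X => X.ρAut g) (fun {X Y} f => (f.comm g).symm)
  map_one' := by
    ext X x
    change (X.ρ 1).hom x = x
    rw [map_one]
    rfl
  map_mul' a b := by
    ext X x
    change (X.ρ (a * b)).hom x = (X.ρ a).hom ((X.ρ b).hom x)
    rw [map_mul]
    rfl

variable {G}

theorem naturality (σ : Aut (F G)) {X Y : Action FintypeCat.{u} G} (f : X ⟶ Y) (x : X.V) :
    σ.hom.app Y (f.hom x) = f.hom (σ.hom.app X x) :=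
  ConcreteCategory.congr_hom (σ.hom.naturality f) x

/-- A homomorphism of finite `G`-sets. -/
noncomputable def mkHom (Y : FintypeCat.{u}) [MulAction G Y] (X : Action FintypeCat.{u} G)
    (f : Y → X.V) (hf : ∀ (g : G) (y : Y), f (g • y) = (X.ρ g).hom (f y)) :
    Action.FintypeCat.ofMulAction G Y ⟶ X :=
  { hom := FintypeCat.homMk f
    comm := fun g => by
      ext y
      exact hf g y }

/-- The coset space of a normal subgroup of finite index. -/
noncomputable def quo (H : FiniteIndexNormalSubgroup G) : Action FintypeCat.{u} G :=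
  letI : Fintype (G ⧸ H.toSubgroup) := Fintype.ofFinite _
  G ⧸ₐ H.toSubgroup

/-- The value at the unit coset. -/
noncomputable def ev (σ : Aut (F G)) (H : FiniteIndexNormalSubgroup G) : G ⧸ H.toSubgroup :=
  σ.hom.app (quo H) ((1 : G) : G ⧸ H.toSubgroup)

theorem app_quo (σ : Aut (F G)) (H : FiniteIndexNormalSubgroup G) (q : G ⧸ H.toSubgroup) :
    (show G ⧸ H.toSubgroup from σ.hom.app (quo H) q) = ev σ H * q := by
  letI : Fintype (G ⧸ H.toSubgroup) := Fintype.ofFinite _
  let r : quo H ⟶ quo H := mkHom (FintypeCat.of (G ⧸ H.toSubgroup)) (quo H)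
    (fun y : G ⧸ H.toSubgroup => (y * q : G ⧸ H.toSubgroup)) (by
      intro g y
      obtain ⟨a, rfl⟩ := QuotientGroup.mk_surjective (s := H.toSubgroup) y
      obtain ⟨b, rfl⟩ := QuotientGroup.mk_surjective (s := H.toSubgroup) q
      change (QuotientGroup.mk (g * a * b) : G ⧸ H.toSubgroup) = QuotientGroup.mk (g * (a * b))
      rw [mul_assoc])
  have h1 := naturality σ r (1 : G ⧸ H.toSubgroup)
  have h2 : r.hom (1 : G ⧸ H.toSubgroup) = q := one_mul q
  rw [h2] at h1
  exact h1

theorem ev_mul (σ τ : Aut (F G)) (H : FiniteIndexNormalSubgroup G) :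
    ev (σ * τ) H = ev σ H * ev τ H :=
  app_quo σ H (ev τ H)

theorem ev_map (σ : Aut (F G)) {H K : FiniteIndexNormalSubgroup G} (h : H ≤ K) :
    QuotientGroup.map H.toSubgroup K.toSubgroup (MonoidHom.id G) h (ev σ H) = ev σ K := by
  letI : Fintype (G ⧸ H.toSubgroup) := Fintype.ofFinite _
  let r : quo H ⟶ quo K := mkHom (FintypeCat.of (G ⧸ H.toSubgroup)) (quo K)
    (fun y : G ⧸ H.toSubgroup => QuotientGroup.map H.toSubgroup K.toSubgroup (MonoidHom.id G) h y) (by
      intro g y
      obtain ⟨a, rfl⟩ := QuotientGroup.mk_surjective (s := H.toSubgroup) y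
      rfl)
  exact (naturality σ r (1 : G ⧸ H.toSubgroup)).symm

/-- An automorphism with trivial values at the unit cosets is trivial. -/
theorem eq_one_of_ev (σ : Aut (F G)) (h : ∀ H, ev σ H = 1) : σ = 1 := by
  ext X x
  have : Finite (Aut X.V) :=
      Finite.of_injective (fun φ : Aut X.V => fun x : X.V => φ.hom x) (by
        intro φ ψ h
        ext x
        exact congrFun h x)
  have hfi : (X.ρAut).ker.FiniteIndex := Subgroup.finiteIndex_ker _
  let H : FiniteIndexNormalSubgroup G := FiniteIndexNormalSubgroup.ofSubgroup (X.ρAut).ker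
  letI : Fintype (G ⧸ H.toSubgroup) := Fintype.ofFinite _
  let f : quo H ⟶ X := mkHom (FintypeCat.of (G ⧸ H.toSubgroup)) X
    (fun y => Quotient.liftOn' y (fun a => (X.ρ a).hom x) (by
      intro a b hab
      have h2 : a⁻¹ * b ∈ (X.ρAut).ker := QuotientGroup.leftRel_apply.1 hab
      have h3 : (X.ρ (a⁻¹ * b)).hom x = x := congrArg (fun φ : Aut X.V => φ.hom x) h2
      have h4 : (X.ρ b).hom x = (X.ρ (a * (a⁻¹ * b))).hom x := by
        rw [mul_inv_cancel_left]
      change (X.ρ a).hom x = (X.ρ b).hom x
      rw [h4, map_mul]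
      exact (congrArg (X.ρ a).hom h3).symm)) (by
      intro g y
      obtain ⟨a, rfl⟩ := QuotientGroup.mk_surjective (s := H.toSubgroup) y
      change (X.ρ (g * a)).hom x = (X.ρ g).hom ((X.ρ a).hom x)
      rw [map_mul]
      rfl)
  have h1 := naturality σ f ((1 : G) : G ⧸ H.toSubgroup)
  have h2 : f.hom ((1 : G) : G ⧸ H.toSubgroup) = x := by
    change (X.ρ 1).hom x = x
    rw [map_one]
    rfl
  rw [h2] at h1
  have h3 : f.hom (ev σ H) = x := by
    rw [h H]
    exact h2
  exact h1.trans h3

open scoped CategoryTheory.PreGaloisCategory in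
theorem continuous_ev (H : FiniteIndexNormalSubgroup G) [TopologicalSpace (G ⧸ H.toSubgroup)] :
    Continuous (fun σ : Aut (F G) => ev σ H) := by
  have h1 : Continuous (fun σ : Aut (F G) => PreGaloisCategory.autEmbedding (F G) σ (quo H)) :=
      (continuous_apply (quo H)).comp continuous_induced_dom
  have h2 : Continuous (fun φ : Aut ((F G).obj (quo H)) =>
      (show G ⧸ H.toSubgroup from φ.hom (1 : G ⧸ H.toSubgroup))) :=
    continuous_of_discreteTopology
  exact h2.comp h1

variable (G)

/-- The map to the completion. -/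
noncomputable def psi : Aut (F G) →* ProfiniteGrp.ProfiniteCompletion.completion (GrpCat.of G) where
  toFun σ := ⟨fun H => ev σ H, fun {H K} f => ev_map σ f.le⟩
  map_one' := rfl
  map_mul' σ τ := Subtype.ext (funext fun H => ev_mul σ τ H)

theorem continuous_psi : Continuous (psi G) := by
  have h : Continuous (fun (σ : Aut (F G)) (H : FiniteIndexNormalSubgroup (GrpCat.of G)) =>
      (show (ProfiniteGrp.ProfiniteCompletion.diagram (GrpCat.of G)).obj H from ev σ H)) := by
    refine continuous_pi fun H => ?_
    exact @continuous_ev G _ H (inferInstanceAs (TopologicalSpace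
      ((ProfiniteGrp.ProfiniteCompletion.diagram (GrpCat.of G)).obj H)))
  exact Continuous.subtype_mk h _

theorem injective_psi : Function.Injective (psi G) := by
  rw [injective_iff_map_eq_one]
  intro σ hσ
  refine eq_one_of_ev σ fun H => ?_
  exact congrFun (congrArg Subtype.val hσ) H

theorem psi_iota (g : G) : psi G (iota G g) = ProfiniteGrp.ProfiniteCompletion.etaFn (GrpCat.of G) g := by
  refine Subtype.ext (funext fun H => ?_)
  change (QuotientGroup.mk (g * 1) : G ⧸ H.toSubgroup) = QuotientGroup.mk g
  rw [mul_one]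

theorem surjective_psi : Function.Surjective (psi G) := by
  have hcl : IsClosed (Set.range (psi G)) := (isCompact_range (continuous_psi G)).isClosed
  have hd : DenseRange (psi G) := by
    refine (ProfiniteGrp.ProfiniteCompletion.denseRange (GrpCat.of G)).mono ?_
    rintro _ ⟨g, rfl⟩
    exact ⟨iota G g, psi_iota G g⟩
  intro y
  have := hd y
  rwa [hcl.closure_eq] at this

/-- The isomorphism of topological groups. -/
noncomputable def equiv : Aut (F G) ≃ₜ* ProfiniteGrp.ProfiniteCompletion.completion (GrpCat.of G) :=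
  { MulEquiv.ofBijective (psi G) ⟨injective_psi G, surjective_psi G⟩ with
    continuous_toFun := continuous_psi G
    continuous_invFun :=
      (Continuous.homeoOfEquivCompactToT2
        (f := Equiv.ofBijective (psi G) ⟨injective_psi G, surjective_psi G⟩) (continuous_psi G)).symm.continuous }

theorem equiv_symm_etaFn (g : G) :
    (equiv G).symm (ProfiniteGrp.ProfiniteCompletion.etaFn (GrpCat.of G) g) = iota G g := by
  rw [← psi_iota]
  exact (equiv G).symm_apply_apply _

end K158.FinGSet
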