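import Groth.Agent.Pi1.K158.ClopenDesc
import Groth.Agent.S0521

/-!
# The ring of functions of a henselian couple proper over an affine base
-/

set_option autoImplicit false
universe u
open CategoryTheory CategoryTheory.Limits AlgebraicGeometry PrimeSpectrum

namespace K158.HensCouple

variable {A B : Type u} [CommRing A] [CommRing B]

/-- The closed subscheme `V(I)` pulled back. -/
noncomputable abbrev clo (I : Ideal A) {X : Scheme.{u}} (f : X ⟶ Spec (CommRingCat.of A)) :
    pullback f (Spec.map (CommRingCat.ofHom (Ideal.Quotient.mk I))) ⟶ X :=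
  pullback.fst f (Spec.map (CommRingCat.ofHom (Ideal.Quotient.mk I)))

theorem mem_range_clo (I : Ideal A) {X : Scheme.{u}} (f : X ⟶ Spec (CommRingCat.of A)) (x : X) :
    x ∈ Set.range (clo I f) ↔ I ≤ (f x).asIdeal := by
  rw [Scheme.Pullback.range_fst]
  change f x ∈ Set.range (PrimeSpectrum.comap (Ideal.Quotient.mk I)) ↔ _
  rw [range_comap_of_surjective _ _ Ideal.Quotient.mk_surjective, Ideal.mk_ker]
  rfl

/-- If `(X, X ×_A A/I)` is a henselian couple and `X ⟶ Spec B` is proper with geometrically connected fibres,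
then `(B, IB)` is a henselian pair. -/
theorem henselianRing (I : Ideal A) (φ : A →+* B) {X : Scheme.{u}} (f : X ⟶ Spec (CommRingCat.of A))
    (p : X ⟶ Spec (CommRingCat.of B)) (hp : p ≫ Spec.map (CommRingCat.ofHom φ) = f) [IsProper p]
    [GeometricallyConnected p]
    (hX : ∀ (Y : Scheme.{u}) (g : Y ⟶ X), IsFinite g →
      ∀ V : Set ↥(pullback g (clo I f)), IsClopen V →
        ∃! U : Set ↥Y, IsClopen U ∧ (pullback.fst g (clo I f)).base ⁻¹' U = V) :
    HenselianRing B (I.map φ) := by
  rw [Groth.Agent.S0521.result]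
  intro C _ _ hfin
  set K : Ideal C := (I.map φ).map (algebraMap B C) with hK
  let s : Spec (CommRingCat.of C) ⟶ Spec (CommRingCat.of B) := Spec.map (CommRingCat.ofHom (algebraMap B C))
  have hs : IsFinite s := by
    rw [IsFinite.SpecMap_iff]
    exact RingHom.finite_algebraMap.2 hfin
  let Y := pullback p s
  let g : Y ⟶ X := pullback.fst p s
  let q : Y ⟶ Spec (CommRingCat.of C) := pullback.snd p s
  have hg : IsFinite g := inferInstance
  have hq : IsProper q := inferInstance
  have hqc : GeometricallyConnected q := inferInstance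
  have hqs : Function.Surjective q := q.surjective
  let r := pullback.fst g (clo I f)
  -- the range of `r`
  have hr : ∀ y : Y, y ∈ Set.range r ↔ K ≤ (q y).asIdeal := by
    intro y
    have h1 : y ∈ Set.range r ↔ g y ∈ Set.range (clo I f) := by
      rw [Scheme.Pullback.range_fst]
      rfl
    have h2 : s (q y) = p (g y) := by
      rw [← Scheme.Hom.comp_apply, ← Scheme.Hom.comp_apply, ← pullback.condition]
    have h3 : f (g y) = Spec.map (CommRingCat.ofHom φ) (p (g y)) := by
      rw [← hp]
      rfl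
    rw [h1, mem_range_clo, h3, ← h2]
    change I ≤ Ideal.comap φ (Ideal.comap (algebraMap B C) (q y).asIdeal) ↔ _
    rw [← Ideal.map_le_iff_le_comap, ← Ideal.map_le_iff_le_comap]
  have hclosedr : ∀ T : Set (Spec (CommRingCat.of C)), IsClosed T → IsClosed (r ⁻¹' (q ⁻¹' T)) :=
    fun T hT => (hT.preimage q.continuous).preimage r.continuous
  refine ⟨?_, ?_, ?_⟩
  · intro e he
    exact IsIdempotentElem.map he _
  · intro e he e' he' hee
    have hmem : e - e' ∈ K := Ideal.Quotient.eq.1 hee
    apply basicOpen_injOn_isIdempotentElem he he'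
    have hc : IsClopen ((basicOpen e : Set (PrimeSpectrum C))) := PrimeSpectrum.isClopen_iff.2 ⟨e, he, rfl⟩
    have hc' : IsClopen ((basicOpen e' : Set (PrimeSpectrum C))) := PrimeSpectrum.isClopen_iff.2 ⟨e', he', rfl⟩
    let W : Set (Spec (CommRingCat.of C)) := (basicOpen e : Set (PrimeSpectrum C))
    let W' : Set (Spec (CommRingCat.of C)) := (basicOpen e' : Set (PrimeSpectrum C))
    have hW : IsClopen W := hc
    have hW' : IsClopen W' := hc'
    have h1 : IsClopen (q ⁻¹' W) := hW.preimage q.continuous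
    have h1' : IsClopen (q ⁻¹' W') := hW'.preimage q.continuous
    obtain ⟨U, -, hU⟩ := hX Y g hg (r ⁻¹' (q ⁻¹' W)) (h1.preimage r.continuous)
    have e1 := hU (q ⁻¹' W) ⟨h1, rfl⟩
    have e2 := hU (q ⁻¹' W') ⟨h1', by
      ext y
      have hy := (hr (r y)).1 ⟨y, rfl⟩
      change e' ∉ (q (r y)).asIdeal ↔ e ∉ (q (r y)).asIdeal
      have : e - e' ∈ (q (r y)).asIdeal := hy hmem
      refine not_congr ⟨fun h => ?_, fun h => ?_⟩
      · have := Ideal.add_mem _ this h
        simpa using this
      · have := Ideal.sub_mem _ h this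
        simpa using this⟩
    have e3 : W = W' := by
      have : q ⁻¹' W = q ⁻¹' W' := e1.trans e2.symm
      exact Set.preimage_injective.2 hqs this
    exact TopologicalSpace.Opens.ext e3
  · intro ē hē
    let t := PrimeSpectrum.comap (Ideal.Quotient.mk K)
    have ht : Topology.IsClosedEmbedding t :=
      isClosedEmbedding_comap_of_surjective _ _ Ideal.Quotient.mk_surjective
    have htr : ∀ c : PrimeSpectrum C, c ∈ Set.range t ↔ K ≤ c.asIdeal := by
      intro c
      rw [range_comap_of_surjective _ _ Ideal.Quotient.mk_surjective, Ideal.mk_ker]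
      rfl
    have hc : IsClopen (basicOpen ē : Set (PrimeSpectrum (C ⧸ K))) := PrimeSpectrum.isClopen_iff.2 ⟨ē, hē, rfl⟩
    let T : Set (Spec (CommRingCat.of C)) := t '' (basicOpen ē : Set (PrimeSpectrum (C ⧸ K)))
    let T' : Set (Spec (CommRingCat.of C)) := t '' (basicOpen ē : Set (PrimeSpectrum (C ⧸ K)))ᶜ
    have hT : IsClosed T := ht.isClosedMap _ hc.isClosed
    have hT' : IsClosed T' := ht.isClosedMap _ hc.compl.isClosed
    have hcompl : (r ⁻¹' (q ⁻¹' T))ᶜ = r ⁻¹' (q ⁻¹' T') := by
      ext y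
      obtain ⟨z, hz⟩ := (htr (q (r y))).2 ((hr (r y)).1 ⟨y, rfl⟩)
      change ¬ (q (r y) ∈ T) ↔ q (r y) ∈ T'
      have h1 : q (r y) ∈ T ↔ z ∈ (basicOpen ē : Set (PrimeSpectrum (C ⧸ K))) := by
        constructor
        · rintro ⟨z', hz', hzz⟩
          have : z' = z := ht.injective (hzz.trans hz.symm)
          rwa [← this]
        · intro h
          exact ⟨z, h, hz⟩
      have h2 : q (r y) ∈ T' ↔ z ∉ (basicOpen ē : Set (PrimeSpectrum (C ⧸ K))) := by
        constructor
        · rintro ⟨z', hz', hzz⟩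
          have : z' = z := ht.injective (hzz.trans hz.symm)
          rw [← this]
          exact hz'
        · intro h
          exact ⟨z, h, hz⟩
      rw [h1, h2]
    have hV : IsClopen (r ⁻¹' (q ⁻¹' T)) := ⟨hclosedr T hT, by
      rw [← isClosed_compl_iff, hcompl]
      exact hclosedr T' hT'⟩
    obtain ⟨U, ⟨hU, hUV⟩, -⟩ := hX Y g hg _ hV
    obtain ⟨W, hW, hWU⟩ := ClopenDesc.exists_isClopen_of_geometricallyConnected q U hU
    obtain ⟨e, he, heW⟩ := PrimeSpectrum.isClopen_iff.1 (show IsClopen (W : Set (PrimeSpectrum C)) from hW)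
    refine ⟨e, he, ?_⟩
    apply basicOpen_injOn_isIdempotentElem (IsIdempotentElem.map he _) hē
    apply TopologicalSpace.Opens.ext
    ext z
    obtain ⟨y', hy'⟩ := hqs (t z)
    obtain ⟨y, hy⟩ := (hr y').2 (by rw [hy']; exact (htr (t z)).1 ⟨z, rfl⟩)
    have h1 : q (r y) = t z := by rw [hy, hy']
    have h2 : (t z) ∈ (W : Set (PrimeSpectrum C)) ↔ y ∈ r ⁻¹' (q ⁻¹' T) := by
      rw [← hUV, ← hWU]
      change _ ↔ q (r y) ∈ W
      rw [h1]
      exact Iff.rfl
    have h3 : y ∈ r ⁻¹' (q ⁻¹' T) ↔ z ∈ (basicOpen ē : Set (PrimeSpectrum (C ⧸ K))) := by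
      change q (r y) ∈ T ↔ _
      rw [h1]
      exact ht.injective.mem_set_image
    have h4 : z ∈ (basicOpen (Ideal.Quotient.mk K e) : Set (PrimeSpectrum (C ⧸ K))) ↔
        (t z) ∈ (W : Set (PrimeSpectrum C)) := by
      rw [heW]
      rfl
    exact h4.trans (h2.trans h3)

end K158.HensCouple
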