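import Groth.Agent.Pi1.K158.HensCouple
import Groth.Agent.S0388
import Groth.Agent.Pi1A.FEtAffine
import Mathlib.Algebra.Category.Ring.Constructions

/-!
# Finite étale covers over a henselian couple proper over an affine base
-/

set_option autoImplicit false
universe u
open CategoryTheory CategoryTheory.Limits AlgebraicGeometry

namespace K158.HensCoupleMain

open HensCouple

/-- Base change of a quotient ring. -/
theorem isPushout_quot {A B : Type u} [CommRing A] [CommRing B] (φ : A →+* B) (I : Ideal A) (J : Ideal B)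
    (hIJ : I ≤ J.comap φ) (hJ : J ≤ I.map φ) :
    IsPushout (CommRingCat.ofHom φ) (CommRingCat.ofHom (Ideal.Quotient.mk I))
      (CommRingCat.ofHom (Ideal.Quotient.mk J)) (CommRingCat.ofHom (Ideal.quotientMap J φ hIJ)) := by
  refine ⟨⟨?_⟩, ⟨PushoutCocone.IsColimit.mk _ (fun s => CommRingCat.ofHom
    (Ideal.Quotient.lift J s.inl.hom ?_)) ?_ ?_ ?_⟩⟩
  · apply CommRingCat.hom_ext
    ext a
    rfl
  · have h1 : J ≤ RingHom.ker s.inl.hom := by
      refine hJ.trans (Ideal.map_le_iff_le_comap.2 fun a ha => ?_)
      rw [Ideal.mem_comap, RingHom.mem_ker]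
      have hc := congrArg (fun q => q.hom a) s.condition
      have hc' : s.inl.hom (φ a) = s.inr.hom (Ideal.Quotient.mk I a) := hc
      rw [hc', Ideal.Quotient.eq_zero_iff_mem.2 ha, map_zero]
    exact fun a ha => h1 ha
  · intro s
    apply CommRingCat.hom_ext
    exact RingHom.ext fun x => rfl
  · intro s
    apply CommRingCat.hom_ext
    refine Ideal.Quotient.ringHom_ext (RingHom.ext fun x => ?_)
    have hc := congrArg (fun q => q.hom x) s.condition
    exact hc
  · intro s m h1 h2
    apply CommRingCat.hom_ext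
    refine Ideal.Quotient.ringHom_ext (RingHom.ext fun x => ?_)
    have hc := congrArg (fun q => q.hom x) h1
    exact hc

/-- The closed subscheme pulled back in one or in two steps. -/
theorem exists_iso {A B : Type u} [CommRing A] [CommRing B] (I : Ideal A) (φ : A →+* B) {X X' : Scheme.{u}}
    (f : X ⟶ Spec (CommRingCat.of A)) (p : X ⟶ Spec (CommRingCat.of B))
    (hp : p ≫ Spec.map (CommRingCat.ofHom φ) = f) (g : X' ⟶ X) :
    ∃ e : pullback g (clo I f) ≅ pullback (g ≫ p)
        (Spec.map (CommRingCat.ofHom (Ideal.Quotient.mk (I.map φ)))),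
      e.hom ≫ pullback.fst _ _ = pullback.fst g (clo I f) := by
  -- the outer square
  have s1 : IsPullback (pullback.fst g (clo I f)) (pullback.snd g (clo I f)) g (clo I f) :=
    IsPullback.of_hasPullback _ _
  have s2 : IsPullback (clo I f) (pullback.snd f (Spec.map (CommRingCat.ofHom (Ideal.Quotient.mk I)))) f
      (Spec.map (CommRingCat.ofHom (Ideal.Quotient.mk I))) := IsPullback.of_hasPullback _ _
  have s12 : IsPullback (pullback.fst g (clo I f)) (pullback.snd g (clo I f) ≫
      pullback.snd f (Spec.map (CommRingCat.ofHom (Ideal.Quotient.mk I)))) (g ≫ f)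
      (Spec.map (CommRingCat.ofHom (Ideal.Quotient.mk I))) := by
    exact (s1.flip.paste_horiz s2.flip).flip
  have s3 : IsPullback (Spec.map (CommRingCat.ofHom (Ideal.Quotient.mk (I.map φ))))
      (Spec.map (CommRingCat.ofHom (Ideal.quotientMap (I.map φ) φ Ideal.le_comap_map)))
      (Spec.map (CommRingCat.ofHom φ)) (Spec.map (CommRingCat.ofHom (Ideal.Quotient.mk I))) :=
    isPullback_SpecMap_of_isPushout _ _ _ _ (isPushout_quot φ I (I.map φ) Ideal.le_comap_map le_rfl)
  have s4 : IsPullback (pullback.fst (g ≫ p) (Spec.map (CommRingCat.ofHom (Ideal.Quotient.mk (I.map φ)))))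
      (pullback.snd (g ≫ p) (Spec.map (CommRingCat.ofHom (Ideal.Quotient.mk (I.map φ))))) (g ≫ p)
      (Spec.map (CommRingCat.ofHom (Ideal.Quotient.mk (I.map φ)))) := IsPullback.of_hasPullback _ _
  have s34 := (s4.flip.paste_horiz s3.flip).flip
  have hgp : (g ≫ p) ≫ Spec.map (CommRingCat.ofHom φ) = g ≫ f := by rw [Category.assoc, hp]
  rw [hgp] at s34
  exact ⟨s12.isoIsPullback _ _ s34, s12.isoIsPullback_hom_fst _ _ s34⟩

/-- The Stein factorization through the spectrum of a ring. -/
theorem exists_stein {A : Type u} [CommRing A] {X : Scheme.{u}} (f : X ⟶ Spec (CommRingCat.of A)) [IsProper f] :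
    ∃ (B : Type u) (_ : CommRing B) (φ : A →+* B) (p : X ⟶ Spec (CommRingCat.of B)),
      p ≫ Spec.map (CommRingCat.ofHom φ) = f ∧ IsProper p ∧ GeometricallyConnected p := by
  have haff : IsAffine f.normalization := isAffine_of_isAffineHom f.fromNormalization
  have h1 : IsProper (f.toNormalization ≫ f.fromNormalization) := by
    rw [Scheme.Hom.toNormalization_fromNormalization]; infer_instance
  have h2 : IsProper f.toNormalization := IsProper.of_comp _ f.fromNormalization
  have h3 : GeometricallyConnected f.toNormalization := (Groth.Agent.S0388.result f).1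
  let φ : A →+* Γ(f.normalization, ⊤) :=
    ((Scheme.ΓSpecIso (CommRingCat.of A)).inv ≫ f.fromNormalization.appTop).hom
  have h4 : f.normalization.toSpecΓ ≫ Spec.map (CommRingCat.ofHom φ) = f.fromNormalization := by
    have h5 : CommRingCat.ofHom φ = (Scheme.ΓSpecIso (CommRingCat.of A)).inv ≫ f.fromNormalization.appTop := rfl
    rw [h5, Spec.map_comp, ← Category.assoc, ← Scheme.toSpecΓ_naturality, Category.assoc,
      toSpecΓ_SpecMap_ΓSpecIso_inv, Category.comp_id]
  refine ⟨Γ(f.normalization, ⊤), inferInstance, φ, f.toNormalization ≫ f.normalization.toSpecΓ, ?_,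
    inferInstance, ?_⟩
  · rw [Category.assoc, h4, Scheme.Hom.toNormalization_fromNormalization]
  · exact (MorphismProperty.cancel_right_of_respectsIso @GeometricallyConnected _ _).2 h3

/-- Finite étale covers over a henselian couple, from the case of a proper scheme over a henselian pair. -/
theorem main
    (H : ∀ (B : Type u) [CommRing B] (J : Ideal B) [HenselianRing B J] {X : Scheme.{u}}
      (f : X ⟶ Spec (CommRingCat.of B)) [IsProper f],
      (FEt.restrict (pullback.fst f (Spec.map (CommRingCat.ofHom (Ideal.Quotient.mk J))))).IsEquivalence)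
    {A : Type u} [CommRing A] (I : Ideal A) {X : Scheme.{u}} (f : X ⟶ Spec (CommRingCat.of A)) [IsProper f]
    (hX : ∀ (Y : Scheme.{u}) (g : Y ⟶ X), IsFinite g →
      ∀ V : Set ↥(pullback g (clo I f)), IsClopen V →
        ∃! U : Set ↥Y, IsClopen U ∧ (pullback.fst g (clo I f)).base ⁻¹' U = V)
    {X' : Scheme.{u}} (g : X' ⟶ X) [IsFinite g] :
    (FEt.restrict (pullback.fst g (clo I f))).IsEquivalence := by
  obtain ⟨B, _, φ, p, hp, hpp, hpc⟩ := exists_stein f
  have hB : HenselianRing B (I.map φ) := henselianRing I φ f p hp hX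
  obtain ⟨e, he⟩ := exists_iso I φ f p hp g
  have h1 := H B (I.map φ) (g ≫ p)
  have h2 : FEt.restrict (pullback.fst g (clo I f)) ≅
      FEt.restrict (pullback.fst (g ≫ p) (Spec.map (CommRingCat.ofHom (Ideal.Quotient.mk (I.map φ))))) ⋙
        FEt.restrict e.hom := MorphismProperty.Over.pullbackComp _ _ _ he.symm
  have h3 : (FEt.restrict e.hom).IsEquivalence :=
    Groth.Agent.Pi1A.FEtAffine.restrict_isEquivalence_of_isIso e.hom
  exact Functor.isEquivalence_of_iso h2.symm

end K158.HensCoupleMain
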