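import Groth.Agent.Pi1.H394.WEReduced
import Mathlib.RingTheory.Etale.Weakly
import Mathlib.RingTheory.Flat.Basic
import Groth.Agent.Pi1A.ClopenCrit
import Mathlib.RingTheory.Idempotents
import Mathlib.RingTheory.Spectrum.Prime.Topology

/-!
# Extending clopen subsets across a divisor with a retraction
-/

set_option autoImplicit false
universe u

open CategoryTheory CategoryTheory.Limits AlgebraicGeometry TopologicalSpace
open scoped TensorProduct

namespace K158.LamExt

variable {E : Type u} [CommRing E]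

theorem injective_away {t : E} (h1 : ∀ x, t * x = 0 → x = 0) :
    Function.Injective (algebraMap E (Localization.Away t)) := by
  refine IsLocalization.injective (M := Submonoid.powers t) _ ?_
  rintro _ ⟨n, rfl⟩
  refine pow_mem ?_ n
  rw [mem_nonZeroDivisors_iff_right]
  intro x hx
  exact h1 x (by rw [mul_comm]; exact hx)

theorem mem_nil_of_mul {t : E} (h1 : ∀ x, t * x = 0 → x = 0) {x : E}
    (hx : t * x ∈ nilradical E) : x ∈ nilradical E := by
  rw [mem_nilradical] at *
  obtain ⟨n, hn⟩ := hx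
  refine ⟨n, ?_⟩
  rw [mul_pow] at hn
  have key : ∀ m : ℕ, ∀ y, t ^ m * y = 0 → y = 0 := by
    intro m
    induction m with
    | zero => intro y hy; simpa using hy
    | succ m ih => intro y hy; exact ih y (h1 _ (by rw [← hy]; ring))
  exact key n _ hn

/-- Nonempty open subsets meet `D(t)`, `t` regular. -/
theorem dense_basicOpen {t : E} (h1 : ∀ x, t * x = 0 → x = 0) :
    Dense (PrimeSpectrum.basicOpen t : Set (PrimeSpectrum E)) := by
  rw [dense_iff_inter_open]
  rintro U hU ⟨x, hx⟩
  obtain ⟨_, ⟨_, ⟨s, rfl⟩, rfl⟩, hxs, hsU⟩ :=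
    PrimeSpectrum.isBasis_basic_opens.exists_subset_of_mem_open hx hU
  by_contra hcon
  rw [Set.not_nonempty_iff_eq_empty] at hcon
  have h2 : (PrimeSpectrum.basicOpen (t * s) : Set (PrimeSpectrum E)) = ∅ := by
    rw [PrimeSpectrum.basicOpen_mul]
    apply Set.eq_empty_of_subset_empty
    rw [← hcon]
    rintro y ⟨hy1, hy2⟩
    exact ⟨hsU hy2, hy1⟩
  have h3 : t * s ∈ nilradical E := by
    rw [mem_nilradical, ← PrimeSpectrum.basicOpen_eq_bot_iff]
    exact TopologicalSpace.Opens.ext h2
  have h4 := mem_nil_of_mul h1 h3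
  rw [mem_nilradical, ← PrimeSpectrum.basicOpen_eq_bot_iff] at h4
  rw [h4] at hxs
  exact hxs

theorem descend {t : E} (h1 : ∀ x, t * x = 0 → x = 0)
    (h2 : (nilradical E ⊔ Ideal.span {t}).IsRadical) :
    ∀ (m : ℕ) (b : E), b ^ 2 - t ^ m * b ∈ nilradical E →
      ∃ c, c ^ 2 - c ∈ nilradical E ∧ b - t ^ m * c ∈ nilradical E := by
  intro m
  induction m with
  | zero => intro b hb; exact ⟨b, by simpa using hb, by simp⟩
  | succ m ih =>
    intro b hb
    have hbmem : b ∈ nilradical E ⊔ Ideal.span {t} := by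
      apply h2
      refine ⟨2, ?_⟩
      have : b ^ 2 = (b ^ 2 - t ^ (m + 1) * b) + t ^ (m + 1) * b := by ring
      rw [this]
      exact Ideal.add_mem _ (Ideal.mem_sup_left hb) (Ideal.mem_sup_right
        (Ideal.mem_span_singleton'.2 ⟨t ^ m * b, by ring⟩))
    obtain ⟨ν, hν, y, hy, rfl⟩ := Submodule.mem_sup.1 hbmem
    obtain ⟨b', rfl⟩ := Ideal.mem_span_singleton'.1 hy
    have h3 : b' ^ 2 - t ^ m * b' ∈ nilradical E := by
      apply mem_nil_of_mul h1
      apply mem_nil_of_mul h1
      have : t * (t * (b' ^ 2 - t ^ m * b')) =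
        ((ν + b' * t) ^ 2 - t ^ (m + 1) * (ν + b' * t)) - ν * (ν + 2 * b' * t - t ^ (m + 1)) := by
        ring
      rw [this]
      exact Ideal.sub_mem _ hb (Ideal.mul_mem_right _ _ hν)
    obtain ⟨c, hc, hc'⟩ := ih b' h3
    refine ⟨c, hc, ?_⟩
    have : ν + b' * t - t ^ (m + 1) * c = ν + t * (b' - t ^ m * c) := by ring
    rw [this]
    exact Ideal.add_mem _ hν (Ideal.mul_mem_left _ _ hc')

/-- Clopen subsets of `D(t)` extend to clopen subsets of `Spec E`. -/
theorem exists_isClopen {t : E} (h1 : ∀ x, t * x = 0 → x = 0)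
    (h2 : (nilradical E ⊔ Ideal.span {t}).IsRadical) (W : Set (PrimeSpectrum E))
    (hW : W ⊆ PrimeSpectrum.basicOpen t) (ho : IsOpen W)
    (hc : IsOpen ((PrimeSpectrum.basicOpen t : Set (PrimeSpectrum E)) \ W)) :
    ∃ Z : Set (PrimeSpectrum E), IsClopen Z ∧ Z ∩ PrimeSpectrum.basicOpen t = W := by
  let L := Localization.Away t
  let φ : PrimeSpectrum L → PrimeSpectrum E := PrimeSpectrum.comap (algebraMap E L)
  have hφc : Continuous φ := PrimeSpectrum.continuous_comap _
  have hφr : Set.range φ = PrimeSpectrum.basicOpen t :=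
    PrimeSpectrum.localization_away_comap_range L t
  have hcl : IsClopen (φ ⁻¹' W) := by
    refine ⟨⟨?_⟩, ho.preimage hφc⟩
    have : (φ ⁻¹' W)ᶜ = φ ⁻¹' ((PrimeSpectrum.basicOpen t : Set (PrimeSpectrum E)) \ W) := by
      ext x
      simp only [Set.mem_compl_iff, Set.mem_preimage, Set.mem_diff]
      exact ⟨fun h => ⟨hφr ▸ ⟨x, rfl⟩, h⟩, fun h => h.2⟩
    rw [this]
    exact hc.preimage hφc
  obtain ⟨e, he, hWe⟩ := PrimeSpectrum.isClopen_iff.1 hcl
  obtain ⟨m, b, hb⟩ := IsLocalization.Away.surj t e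
  have hb2 : b ^ 2 = t ^ m * b := by
    apply injective_away h1
    rw [map_pow, map_mul, map_pow, ← hb, mul_pow, pow_two e, he.eq]
    ring
  obtain ⟨c, hc1, hc2⟩ := descend h1 h2 m b (by rw [hb2, sub_self]; exact Ideal.zero_mem _)
  obtain ⟨e', he', hce⟩ := exists_isIdempotentElem_eq_of_ker_isNilpotent
    (Ideal.Quotient.mk (nilradical E)) (by
      intro x hx
      rw [Ideal.mk_ker] at hx
      exact hx) (Ideal.Quotient.mk _ c) ⟨c, rfl⟩ (by
      change _ * _ = _
      rw [← map_mul, ← pow_two]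
      exact Ideal.Quotient.eq.2 hc1)
  have hnil : ∀ (p : PrimeSpectrum E) (x : E), x ∈ nilradical E → x ∈ p.asIdeal := by
    intro p x hx
    exact nilradical_le_prime p.asIdeal hx
  have hec : e' - c ∈ nilradical E := Ideal.Quotient.eq.1 hce
  have key : ∀ p' : PrimeSpectrum L, e' ∈ (φ p').asIdeal ↔ e ∈ p'.asIdeal := by
    intro p'
    have ht : t ∉ (φ p').asIdeal := by
      have : φ p' ∈ (PrimeSpectrum.basicOpen t : Set (PrimeSpectrum E)) := hφr ▸ ⟨p', rfl⟩
      exact this
    have hcmem : e' ∈ (φ p').asIdeal ↔ c ∈ (φ p').asIdeal := by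
      constructor
      · intro h
        have : c = e' - (e' - c) := by ring
        rw [this]
        exact Ideal.sub_mem _ h (hnil _ _ hec)
      · intro h
        have : e' = (e' - c) + c := by ring
        rw [this]
        exact Ideal.add_mem _ (hnil _ _ hec) h
    have hbmem : c ∈ (φ p').asIdeal ↔ b ∈ (φ p').asIdeal := by
      constructor
      · intro h
        have : b = (b - t ^ m * c) + t ^ m * c := by ring
        rw [this]
        exact Ideal.add_mem _ (hnil _ _ hc2) (Ideal.mul_mem_left _ _ h)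
      · intro h
        have h3 : t ^ m * c ∈ (φ p').asIdeal := by
          have : t ^ m * c = b - (b - t ^ m * c) := by ring
          rw [this]
          exact Ideal.sub_mem _ h (hnil _ _ hc2)
        rcases (φ p').isPrime.mem_or_mem h3 with h4 | h4
        · exact absurd ((φ p').isPrime.mem_of_pow_mem _ h4) ht
        · exact h4
    rw [hcmem, hbmem]
    change algebraMap E L b ∈ p'.asIdeal ↔ _
    rw [← hb]
    constructor
    · intro h
      rcases p'.isPrime.mem_or_mem h with h4 | h4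
      · exact h4
      · exact absurd (p'.isPrime.mem_of_pow_mem _ h4) ht
    · intro h
      exact Ideal.mul_mem_right _ _ h
  refine ⟨PrimeSpectrum.basicOpen e', PrimeSpectrum.isClopen_iff.2 ⟨e', he', rfl⟩, ?_⟩
  ext p
  constructor
  · rintro ⟨hp1, hp2⟩
    obtain ⟨p', rfl⟩ : p ∈ Set.range φ := by rw [hφr]; exact hp2
    change p' ∈ φ ⁻¹' W
    rw [hWe]
    intro hcon
    exact hp1 ((key p').2 hcon)
  · intro hp
    obtain ⟨p', rfl⟩ : p ∈ Set.range φ := by rw [hφr]; exact hW hp
    refine ⟨fun hcon => ?_, hW hp⟩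
    have : p' ∈ φ ⁻¹' W := hp
    rw [hWe] at this
    exact this ((key p').1 hcon)

/-- `λ` is regular and `nil(R) + (λ)` is radical. -/
structure LamData (R : Type u) [CommRing R] (lam : R) : Prop where
  reg : ∀ x, lam * x = 0 → x = 0
  rad : (nilradical R ⊔ Ideal.span {lam}).IsRadical

/-- The data in presence of a retraction. -/
theorem LamData.of_retraction {R C : Type u} [CommRing R] [CommRing C] (lam : R)
    (hreg : ∀ x, lam * x = 0 → x = 0) (σ : R →+* C) (α : C →+* R) (hσ : ∀ c, σ (α c) = c)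
    (hker : ∀ x, σ x = 0 → x ∈ Ideal.span {lam}) (hlam : σ lam = 0) : LamData R lam := by
  refine ⟨hreg, ?_⟩
  rintro x ⟨n, hn⟩
  obtain ⟨ν, hν, y, hy, hxy⟩ := Submodule.mem_sup.1 hn
  obtain ⟨z, rfl⟩ := Ideal.mem_span_singleton'.1 hy
  have h1 : IsNilpotent (σ x) := by
    have h2 : IsNilpotent (σ x ^ n) := by
      rw [← map_pow, ← hxy, map_add, map_mul, hlam, mul_zero, add_zero]
      exact (mem_nilradical.1 hν).map σ
    exact h2.of_pow
  have h3 : x = α (σ x) + (x - α (σ x)) := by ring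
  rw [h3]
  exact Ideal.add_mem _ (Ideal.mem_sup_left (mem_nilradical.2 (h1.map α)))
    (Ideal.mem_sup_right (hker _ (by rw [map_sub, hσ, sub_self])))

theorem isRadical_map {R E : Type u} [CommRing R] [CommRing E] [Algebra R E] [Algebra.Etale R E]
    (J : Ideal R) (hJ : J.IsRadical) : (J.map (algebraMap R E)).IsRadical := by
  have h1 : IsReduced (R ⧸ J) := (Ideal.isRadical_iff_quotient_reduced J).1 hJ
  have h2 : IsReduced ((R ⧸ J) ⊗[R] E) :=
    Groth.Agent.Pi1.H394.WEReduced.isReduced_of_weaklyEtale (R ⧸ J) ((R ⧸ J) ⊗[R] E)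
  rw [Ideal.isRadical_iff_quotient_reduced]
  let e : (E ⧸ J.map (algebraMap R E)) ≃+* (R ⧸ J) ⊗[R] E :=
    (Algebra.TensorProduct.quotIdealMapEquivTensorQuot E J).toRingEquiv.trans
      (Algebra.TensorProduct.comm R E (R ⧸ J)).toRingEquiv
  exact isReduced_of_injective e.toRingHom e.injective

theorem nilradical_eq_map {R E : Type u} [CommRing R] [CommRing E] [Algebra R E]
    [Algebra.Etale R E] : nilradical E = (nilradical R).map (algebraMap R E) := by
  apply le_antisymm
  · have h := isRadical_map (E := E) (nilradical R) (Ideal.radical_isRadical _)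
    intro x hx
    exact h (by
      obtain ⟨n, hn⟩ := mem_nilradical.1 hx
      exact ⟨n, by rw [hn]; exact Ideal.zero_mem _⟩)
  · rw [Ideal.map_le_iff_le_comap]
    intro x hx
    exact mem_nilradical.2 ((mem_nilradical.1 hx).map _)

theorem LamData.etale {R E : Type u} [CommRing R] [CommRing E] [Algebra R E] [Algebra.Etale R E]
    {lam : R} (h : LamData R lam) : LamData E (algebraMap R E lam) := by
  refine ⟨?_, ?_⟩
  · have hflat : Module.Flat R E := inferInstance
    have h1 : IsSMulRegular R lam := by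
      rw [isSMulRegular_iff_right_eq_zero_of_smul]
      exact h.reg
    have h2 : IsSMulRegular E (algebraMap R E lam) := h1.of_flat
    rw [isSMulRegular_iff_right_eq_zero_of_smul] at h2
    exact h2
  · have h1 := isRadical_map (E := E) _ h.rad
    rwa [Ideal.map_sup, Ideal.map_span, Set.image_singleton, ← nilradical_eq_map] at h1

section Scheme

theorem exists_chart (S : Scheme.{u}) (x : S) : ∃ (E : CommRingCat.{u}) (j : Spec E ⟶ S)
    (_ : IsOpenImmersion j) (y : Spec E), j y = x := by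
  obtain ⟨i, y, hy⟩ := S.affineCover.exists_eq x
  exact ⟨_, S.affineCover.f i, S.affineCover.map_prop i, y, hy⟩

variable {R : Type u} [CommRing R] {lam : R} (h : LamData R lam)

include h

/-- The charts of a scheme étale over `Spec R`. -/
theorem chart {S : Scheme.{u}} (q : S ⟶ Spec (CommRingCat.of R)) [Etale q] {E : CommRingCat.{u}}
    (j : Spec E ⟶ S) [IsOpenImmersion j] :
    ∃ t : E, LamData E t ∧ ∀ x : Spec E,
      q (j x) ∈ (PrimeSpectrum.basicOpen lam : Set (PrimeSpectrum R)) ↔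
        x ∈ (PrimeSpectrum.basicOpen t : Set (PrimeSpectrum E)) := by
  let ψ := Spec.preimage (j ≫ q)
  have hψ : Spec.map ψ = j ≫ q := Spec.map_preimage _
  have h1 : Etale (Spec.map ψ) := by rw [hψ]; infer_instance
  rw [HasRingHomProperty.Spec_iff (P := @Etale)] at h1
  let _ : Algebra R E := ψ.hom.toAlgebra
  have h2 : Algebra.Etale R E := h1
  refine ⟨ψ.hom lam, h.etale, fun x => ?_⟩
  rw [← Scheme.Hom.comp_apply, ← hψ]
  rfl

theorem dense {S : Scheme.{u}} (q : S ⟶ Spec (CommRingCat.of R)) [Etale q] :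
    Dense (q ⁻¹' (PrimeSpectrum.basicOpen lam : Set (PrimeSpectrum R))) := by
  rw [dense_iff_inter_open]
  rintro U hU ⟨x, hx⟩
  obtain ⟨E, j, _, y, rfl⟩ := exists_chart S x
  obtain ⟨t, ht, ht'⟩ := chart h q j
  obtain ⟨z, hz1, hz2⟩ := (dense_basicOpen ht.reg).inter_open_nonempty _
    (hU.preimage j.continuous) ⟨y, hx⟩
  exact ⟨j z, hz1, (ht' z).2 hz2⟩

/-- The closure of a clopen subset of the complement of the divisor is clopen. -/
theorem isOpen_closure {S : Scheme.{u}} (q : S ⟶ Spec (CommRingCat.of R)) [Etale q]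
    (W : Set S) (hW : W ⊆ q ⁻¹' (PrimeSpectrum.basicOpen lam : Set (PrimeSpectrum R)))
    (ho : IsOpen W)
    (hc : IsOpen (q ⁻¹' (PrimeSpectrum.basicOpen lam : Set (PrimeSpectrum R)) \ W)) :
    IsOpen (closure W) := by
  rw [isOpen_iff_forall_mem_open]
  intro x hx
  obtain ⟨E, j, _, y, hy⟩ := exists_chart S x
  obtain ⟨t, ht, ht'⟩ := chart h q j
  have hpre : ∀ y, y ∈ j ⁻¹' (q ⁻¹' (PrimeSpectrum.basicOpen lam : Set (PrimeSpectrum R))) ↔
    y ∈ (PrimeSpectrum.basicOpen t : Set (PrimeSpectrum _)) := ht'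
  obtain ⟨Z, hZ, hZW⟩ := exists_isClopen ht.reg ht.rad (j ⁻¹' W)
    (fun y hy => (ht' y).1 (hW hy)) (ho.preimage j.continuous) (by
      have h1 : (PrimeSpectrum.basicOpen t : Set (PrimeSpectrum E)) \ (j ⁻¹' W) =
          j ⁻¹' (q ⁻¹' (PrimeSpectrum.basicOpen lam : Set (PrimeSpectrum R)) \ W) :=
        Set.ext fun y => and_congr_left' (hpre y).symm
      exact h1 ▸ hc.preimage j.continuous)
  have hcl : j ⁻¹' closure W = Z := by
    have e1 : j ⁻¹' closure W = closure (j ⁻¹' W) :=
      j.isOpenEmbedding.isOpenMap.preimage_closure_eq_closure_preimage j.continuous W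
    refine e1.trans ?_
    apply Set.Subset.antisymm
    · refine closure_minimal ?_ hZ.isClosed
      intro z hz
      have : z ∈ Z ∩ PrimeSpectrum.basicOpen t := hZW ▸ hz
      exact this.1
    · intro z hz
      have h3 : z ∈ closure (Z ∩ PrimeSpectrum.basicOpen t) :=
        hZ.isOpen.inter_closure ⟨hz, dense_basicOpen ht.reg z⟩
      rw [hZW] at h3
      exact h3
  refine ⟨j '' Z, ?_, j.isOpenEmbedding.isOpenMap _ hZ.isOpen, ?_⟩
  · rw [← hcl]
    exact Set.image_preimage_subset _ _
  · rw [← hcl]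
    exact ⟨y, by rw [Set.mem_preimage]; exact hy ▸ hx, hy⟩

theorem fullyFaithful {S : Scheme.{u}} (q : S ⟶ Spec (CommRingCat.of R)) [Etale q]
    (U : S.Opens) (hU : (U : Set S) = q ⁻¹' (PrimeSpectrum.basicOpen lam : Set (PrimeSpectrum R))) :
    (FEt.restrict U.ι).Full ∧ (FEt.restrict U.ι).Faithful := by
  have hr : ∀ T : FEt.Cat S, Set.range (pullback.fst T.hom U.ι) =
      (T.hom ≫ q) ⁻¹' (PrimeSpectrum.basicOpen lam : Set (PrimeSpectrum R)) := by
    intro T
    rw [IsOpenImmersion.range_pullbackFst, Scheme.Opens.opensRange_ι]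
    change T.hom ⁻¹' (U : Set S) = _
    rw [hU]
    rfl
  refine Groth.Agent.Pi1A.ClopenCrit.restrict_fullyFaithful_of_isClopen U.ι ?_ ?_
  · intro T Z hZ hempty
    have hTe : Etale T.hom := T.prop.2
    by_contra hne
    obtain ⟨z, hz1, hz2⟩ := (dense h (T.hom ≫ q)).inter_open_nonempty _ hZ.isOpen
      (Set.nonempty_iff_ne_empty.2 hne)
    rw [← hr T] at hz2
    obtain ⟨w, rfl⟩ := hz2
    have : w ∈ pullback.fst T.hom U.ι ⁻¹' Z := hz1
    rw [hempty] at this
    exact this
  · intro T V hV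
    have hTe : Etale T.hom := T.prop.2
    have hemb := (pullback.fst T.hom U.ι).isOpenEmbedding
    have hWc : IsOpen ((T.hom ≫ q) ⁻¹' (PrimeSpectrum.basicOpen lam : Set (PrimeSpectrum R)) \ (pullback.fst T.hom U.ι '' V)) := by
      rw [← hr T]
      have h1 : Set.range (pullback.fst T.hom U.ι) \ (pullback.fst T.hom U.ι '' V) =
          pullback.fst T.hom U.ι '' Vᶜ := by
        rw [Set.image_compl_eq_range_diff_image hemb.injective]
      rw [h1]
      exact hemb.isOpenMap _ hV.compl.isOpen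
    have hop := isOpen_closure h (T.hom ≫ q) (pullback.fst T.hom U.ι '' V)
      (by rw [← hr T]; exact Set.image_subset_range _ _) (hemb.isOpenMap _ hV.isOpen) hWc
    refine ⟨closure (pullback.fst T.hom U.ι '' V), ⟨isClosed_closure, hop⟩, ?_⟩
    rw [hemb.isOpenMap.preimage_closure_eq_closure_preimage hemb.continuous,
      Set.preimage_image_eq _ hemb.injective, hV.isClosed.closure_eq]

end Scheme

end K158.LamExt
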