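import Groth.Prelude.Def_SGA2
import Groth.Prelude.Def_LefX
import Groth.Agent.S2947
import Groth.Agent.S0239
import Groth.Agent.Pi1A.FEtGlue
import Groth.Agent.Lef.K183.FEtOpen
import Groth.Agent.Pi1.K158.PurePair

/-!
# Purity of a quotient from the effective Lefschetz condition
-/

set_option autoImplicit false
universe u

open CategoryTheory CategoryTheory.Limits AlgebraicGeometry TopologicalSpace IsLocalRing

namespace K158.PureLeff

open Groth.Agent Groth.Agent.Pi1A.FEtGlue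

theorem isPullback_comap {X Y : Scheme.{u}} (𝓘 : X.IdealSheafData) (f : Y ⟶ X) :
    IsPullback (𝓘.comap f).subschemeι ((𝓘.comapIso f).hom ≫ pullback.snd f 𝓘.subschemeι) f
      𝓘.subschemeι :=
  IsPullback.of_iso_pullback ⟨by
      rw [← Scheme.IdealSheafData.comapIso_hom_fst, Category.assoc, Category.assoc,
        pullback.condition]⟩ (𝓘.comapIso f) (by simp) (by simp)

/-- The subscheme defined by the restriction to an open of the kernel of a closed immersion. -/
theorem exists_iso {X Y : Scheme.{u}} (k : Y ⟶ X) [IsClosedImmersion k] (U : X.Opens) :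
    ∃ e : (k.ker.comap U.ι).subscheme ≅ ((k ⁻¹ᵁ U : Y.Opens) : Scheme.{u}),
      e.hom ≫ (k ∣_ U) = (k.ker.comap U.ι).subschemeι := by
  have h1 := isPullback_comap k.ker U.ι
  have h2 : IsPullback (k ∣_ U) (k ⁻¹ᵁ U).ι U.ι k := isPullback_morphismRestrict k U
  have h3 : IsPullback (k ∣_ U) ((k ⁻¹ᵁ U).ι ≫ k.toImage) U.ι k.ker.subschemeι :=
    h2.of_iso (Iso.refl _) (Iso.refl _) (asIso k.toImage) (Iso.refl _) (by simp) (by simp) (by simp)
      (by
        simp only [Iso.refl_hom, Category.comp_id, asIso_hom]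
        exact k.toImage_imageι.symm)
  exact ⟨h1.isoIsPullback _ _ h3, h1.isoIsPullback_hom_fst _ _ h3⟩

/-- The restriction of an ideal sheaf to the whole scheme. -/
noncomputable def arrowIsoTop {X : Scheme.{u}} (𝓘 : X.IdealSheafData) :
    Arrow.mk 𝓘.subschemeι ≅ Arrow.mk (𝓘.comap (⊤ : X.Opens).ι).subschemeι := by
  have h0 : IsIso (⊤ : X.Opens).ι := inferInstanceAs (IsIso X.topIso.hom)
  have h1 := isPullback_comap 𝓘 (⊤ : X.Opens).ι
  have h2 : IsIso ((𝓘.comapIso (⊤ : X.Opens).ι).hom ≫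
    pullback.snd (⊤ : X.Opens).ι 𝓘.subschemeι) := h1.isIso_snd_of_isIso
  exact (Arrow.isoMk (asIso ((𝓘.comapIso (⊤ : X.Opens).ι).hom ≫
    pullback.snd (⊤ : X.Opens).ι 𝓘.subschemeι)) (asIso (⊤ : X.Opens).ι) h1.w.symm).symm

/-- Full faithfulness passes to the second factor when the first is an equivalence. -/
theorem full_faithful_right {C D E : Type*} [Category C] [Category D] [Category E] (F : C ⥤ D)
    (G : D ⥤ E) (H : C ⥤ E) (e : F ⋙ G ≅ H) [F.IsEquivalence] (h1 : H.Full) (h2 : H.Faithful) :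
    G.Full ∧ G.Faithful := by
  have i : F.inv ⋙ H ≅ G :=
    Functor.isoWhiskerLeft F.inv e.symm ≪≫ (Functor.associator _ _ _).symm ≪≫
      Functor.isoWhiskerRight F.asEquivalence.counitIso G ≪≫ G.leftUnitor
  have h3 : (F.inv ⋙ H).Full := inferInstance
  have h4 : (F.inv ⋙ H).Faithful := inferInstance
  exact ⟨Functor.Full.of_iso i, Functor.Faithful.of_iso i⟩

variable (A : Type u) [CommRing A] [IsLocalRing A] [IsNoetherianRing A] (I : Ideal A)
  [IsAdicComplete I A] [IsLocalRing (A ⧸ I)]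

theorem main
    (hleff : LefX.LeffCond (↑(FEt.puncturedSpec A) : Scheme.{u})
      ((Spec.map (CommRingCat.ofHom (Ideal.Quotient.mk I))).ker.comap (FEt.puncturedSpec A).ι))
    (hpure : ∀ V : (Spec (CommRingCat.of A)).Opens,
      ((Spec.map (CommRingCat.ofHom (Ideal.Quotient.mk I))).ker.support :
        Set ↥(Spec (CommRingCat.of A))) ∩ (FEt.puncturedSpec A : Set ↥(Spec (CommRingCat.of A))) ⊆
        (V : Set ↥(Spec (CommRingCat.of A))) → SGA2.IsPurePair (Spec (CommRingCat.of A)) V) :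
    (FEt.restrict (FEt.puncturedSpec (A ⧸ I)).ι).IsEquivalence := by
  let k := Spec.map (CommRingCat.ofHom (Ideal.Quotient.mk I))
  let U := FEt.puncturedSpec A
  have hk : IsClosedImmersion k :=
    IsClosedImmersion.spec_of_surjective _ Ideal.Quotient.mk_surjective
  have hkc : k (closedPoint (A ⧸ I)) = closedPoint A := by
    have h1 : (maximalIdeal (A ⧸ I)).comap (Ideal.Quotient.mk I) = maximalIdeal A :=
      IsLocalRing.eq_maximalIdeal
        (Ideal.comap_isMaximal_of_surjective _ Ideal.Quotient.mk_surjective)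
    exact PrimeSpectrum.ext h1
  have hU' : k ⁻¹ᵁ U = FEt.puncturedSpec (A ⧸ I) := by
    ext x
    change k x ≠ closedPoint A ↔ x ≠ closedPoint (A ⧸ I)
    rw [← hkc, (IsClosedImmersion.base_closed (f := k)).injective.ne_iff]
  have heq : (FEt.restrict k).IsEquivalence := Groth.Agent.S0239.result A I
  obtain ⟨e, he⟩ := exists_iso k U
  obtain ⟨hff1, hff2⟩ := Groth.Agent.S2947.result _ _ hleff.1 ⊤ (Set.subset_univ _)
  have hUeq : (FEt.restrict U.ι).IsEquivalence := K158.PurePair.isEquivalence_ι U (hpure U Set.inter_subset_right)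
  -- full faithfulness
  have a0 : Arrow.mk (k ∣_ U) ≅ Arrow.mk (k.ker.comap U.ι).subschemeι :=
    Arrow.isoMk e.symm (Iso.refl _) (by
      simp only [Iso.symm_hom, Arrow.mk_hom, Iso.refl_hom, Category.comp_id]
      rw [← he, e.inv_hom_id_assoc])
  have hf1 : (FEt.restrict (k ∣_ U)).Full := full_of_arrowIso (a0 ≪≫ arrowIsoTop _) hff1
  have hf2 : (FEt.restrict (k ∣_ U)).Faithful := faithful_of_arrowIso (a0 ≪≫ arrowIsoTop _) hff2
  have hcomp : (k ∣_ U) ≫ U.ι = (k ⁻¹ᵁ U).ι ≫ k := morphismRestrict_ι k U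
  obtain ⟨hg1, hg2⟩ := full_faithful_right (FEt.restrict k) (FEt.restrict (k ⁻¹ᵁ U).ι)
    (FEt.restrict U.ι ⋙ FEt.restrict (k ∣_ U))
    ((restrictComp _ _).symm ≪≫ restrictCongr hcomp.symm ≪≫ restrictComp _ _)
    inferInstance inferInstance
  have hess : (FEt.restrict (k ⁻¹ᵁ U).ι).EssSurj := by
    constructor
    intro W
    obtain ⟨V, R'', hV, hi⟩ := K183.FEtOpen.exists_nhd_cover_of_leffCond (X := (U : Scheme.{u})) (k.ker.comap U.ι) hleff
      ((FEt.restrict e.hom).obj W)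
    let i : (k.ker.comap U.ι).subscheme ⟶ (V : Scheme.{u}) :=
      IsOpenImmersion.lift V.ι (k.ker.comap U.ι).subschemeι (by
        rw [Scheme.IdealSheafData.range_subschemeι, Scheme.Opens.range_ι]
        exact hV)
    have hiV : i ≫ V.ι = (k.ker.comap U.ι).subschemeι := IsOpenImmersion.lift_fac _ _ _
    obtain ⟨i1⟩ := hi i hiV
    have hVeq : (FEt.restrict (V.ι ≫ U.ι)).IsEquivalence := by
      have h1 := K158.PurePair.isEquivalence_ι (U.ι ''ᵁ V) (hpure _ (by
        rintro x ⟨hx, hxU⟩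
        refine ⟨⟨x, hxU⟩, hV ?_, rfl⟩
        rw [Scheme.IdealSheafData.support_comap]
        exact hx))
      refine isEquivalence_of_arrowIso ?_ h1
      refine Arrow.isoMk (IsOpenImmersion.isoOfRangeEq (V.ι ≫ U.ι) (U.ι ''ᵁ V).ι ?_) (Iso.refl _) ?_
      · rw [Scheme.Opens.range_ι]
        ext x
        simp only [Scheme.Hom.comp_base, TopCat.hom_comp, ContinuousMap.coe_comp]
        exact ⟨fun ⟨y, hy⟩ => ⟨y.1, y.2, hy⟩, fun ⟨y, hy, h⟩ => ⟨⟨y, hy⟩, h⟩⟩
      · simp [IsOpenImmersion.isoOfRangeEq_hom_fac]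
    obtain ⟨R₀, ⟨i0⟩⟩ := hVeq.essSurj.mem_essImage R''
    have hh : (e.hom ≫ (k ⁻¹ᵁ U).ι) ≫ k = i ≫ V.ι ≫ U.ι := by
      rw [Category.assoc, ← hcomp, reassoc_of% he, reassoc_of% hiV]
    refine ⟨(FEt.restrict k).obj R₀, ⟨(FEt.restrict e.hom).preimageIso ?_⟩⟩
    exact ((restrictComp e.hom (k ⁻¹ᵁ U).ι).app _).symm ≪≫
      ((restrictComp (e.hom ≫ (k ⁻¹ᵁ U).ι) k).app R₀).symm ≪≫ (restrictCongr hh).app R₀ ≪≫
      (restrictComp i (V.ι ≫ U.ι)).app R₀ ≪≫ (FEt.restrict i).mapIso i0 ≪≫ i1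
  rw [← hU']
  exact { }

end K158.PureLeff
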