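import Groth.Prelude.Def_SGA2
import Groth.Agent.S2358
import Groth.Agent.S2347
import Groth.Agent.S0246
import Groth.Agent.S0252
import Groth.Agent.Lefpen.H416.NormalBase

/-!
# Purity of a normal complete local ring and étaleness of normal finite extensions
-/

set_option autoImplicit false
universe u

open CategoryTheory CategoryTheory.Limits AlgebraicGeometry TopologicalSpace IsLocalRing

namespace K158.RamPure

open Groth.Agent

section Scheme

variable (C : Type u) [CommRing C] [IsDomain C] [IsIntegrallyClosed C] [IsLocalRing C]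
  [IsNoetherianRing C] (E : Type u) [CommRing E] [IsDomain E] [IsIntegrallyClosed E]
  [IsLocalRing E] [Algebra C E] [Module.Finite C E]

/-- The punctured spectrum of a ring for which restriction is an equivalence is nonempty. -/
theorem nonempty_punctured (hC : (FEt.restrict (FEt.puncturedSpec C).ι).IsEquivalence) :
    ((FEt.puncturedSpec C : (Spec (CommRingCat.of C)).Opens) :
      Set (Spec (CommRingCat.of C))).Nonempty := by
  have : CompactSpace ↥(FEt.puncturedSpec C : Scheme.{u}) :=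
    isCompact_iff_compactSpace.1 (NoetherianSpace.isCompact _)
  have h := (Groth.Agent.S0252.result _ hC).surjective
  obtain ⟨a⟩ : Nonempty (ConnectedComponents ↥(Spec (CommRingCat.of C))) := inferInstance
  obtain ⟨b, -⟩ := h a
  obtain ⟨x, -⟩ := Quotient.exists_rep b
  exact ⟨x.1, x.2⟩

theorem etale_of_pure (hC : (FEt.restrict (FEt.puncturedSpec C).ι).IsEquivalence)
    (hne : maximalIdeal E ≠ ⊥)
    (het : Etale (((Spec.map (CommRingCat.ofHom (algebraMap C E))) ⁻¹ᵁ (FEt.puncturedSpec C)).ι ≫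
      Spec.map (CommRingCat.ofHom (algebraMap C E)))) :
    Etale (Spec.map (CommRingCat.ofHom (algebraMap C E))) := by
  let g := Spec.map (CommRingCat.ofHom (algebraMap C E))
  let U := FEt.puncturedSpec C
  have hgfin : IsFinite g := by
    rw [IsFinite.SpecMap_iff]
    exact RingHom.finite_algebraMap.2 inferInstance
  have het' : Etale (g ∣_ U) := by
    have h1 : (g ∣_ U) ≫ U.ι = (g ⁻¹ᵁ U).ι ≫ g := morphismRestrict_ι _ _
    have h2 : Etale ((g ∣_ U) ≫ U.ι) := by rw [h1]; exact het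
    exact MorphismProperty.of_postcomp @Etale (W' := @Etale) (g ∣_ U) U.ι inferInstance h2
  have hfin' : IsFinite (g ∣_ U) := inferInstance
  have hEN : Pi1.IsNormalScheme (Spec (CommRingCat.of E)) :=
    Groth.Agent.Lefpen.H416.NormalBase.isNormalScheme_spec E
  have hCN : Pi1.IsNormalScheme (Spec (CommRingCat.of C)) :=
    Groth.Agent.Lefpen.H416.NormalBase.isNormalScheme_spec C
  -- the generic point of `Spec E` is in the preimage of `U`
  have hgen : (⊥ : PrimeSpectrum E) ∈ (g ⁻¹ᵁ U : Set (Spec (CommRingCat.of E))) := by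
    intro h
    have h0 : (⊥ : Ideal E).comap (algebraMap C E) = maximalIdeal C :=
      congrArg PrimeSpectrum.asIdeal (Set.mem_singleton_iff.1 h)
    have hb : (⊥ : Ideal E).IsPrime := Ideal.isPrime_bot
    have hmax : ((⊥ : Ideal E).comap (algebraMap C E)).IsMaximal := by
      rw [h0]; infer_instance
    exact hne (IsLocalRing.eq_maximalIdeal
      (Ideal.isMaximal_of_isIntegral_of_isMaximal_comap (R := C) (⊥ : Ideal E) hmax)).symm
  have hdE : Dense ((g ⁻¹ᵁ U : (Spec (CommRingCat.of E)).Opens) : Set (Spec (CommRingCat.of E))) :=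
    (g ⁻¹ᵁ U).isOpen.dense ⟨_, hgen⟩
  have hdC : Dense ((U : (Spec (CommRingCat.of C)).Opens) : Set (Spec (CommRingCat.of C))) :=
    U.isOpen.dense ⟨_, hgen⟩
  -- the étale cover
  let V : FEt.Cat (U : Scheme.{u}) := MorphismProperty.Over.mk ⊤ (g ∣_ U) ⟨hfin', het'⟩
  have hess : (FEt.restrict U.ι).EssSurj := hC.essSurj
  obtain ⟨Y, ⟨i⟩⟩ := hess.mem_essImage V
  have hYfin : IsFinite Y.hom := Y.prop.1
  have hYet : Etale Y.hom := Y.prop.2
  obtain ⟨iinv, ihom, hw, hii⟩ : ∃ (iinv : ((g ⁻¹ᵁ U : (Spec (CommRingCat.of E)).Opens) :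
      Scheme.{u}) ⟶ pullback Y.hom U.ι) (ihom : pullback Y.hom U.ι ⟶
        ((g ⁻¹ᵁ U : (Spec (CommRingCat.of E)).Opens) : Scheme.{u})),
      iinv ≫ pullback.snd Y.hom U.ι = g ∣_ U ∧ ihom ≫ iinv = 𝟙 _ :=
    ⟨i.inv.left, i.hom.left, Over.w i.inv.hom, congrArg (fun f => f.left) i.hom_inv_id⟩
  let a : ((g ⁻¹ᵁ U : (Spec (CommRingCat.of E)).Opens) : Scheme.{u}) ⟶ Y.left :=
    iinv ≫ pullback.fst Y.hom U.ι
  have ha : a ≫ Y.hom = (g ⁻¹ᵁ U).ι ≫ g := by
    simp only [a, Category.assoc, pullback.condition]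
    rw [reassoc_of% hw, morphismRestrict_ι]
  let s : ((g ⁻¹ᵁ U : (Spec (CommRingCat.of E)).Opens) : Scheme.{u}) ⟶ pullback g Y.hom :=
    pullback.lift (g ⁻¹ᵁ U).ι a ha.symm
  obtain ⟨s', hs', hss'⟩ := Groth.Agent.S2358.result hEN (pullback.fst g Y.hom) (g ⁻¹ᵁ U) hdE s
    (pullback.lift_fst _ _ _)
  let φ : Spec (CommRingCat.of E) ⟶ Y.left := s' ≫ pullback.snd g Y.hom
  have hφ : φ ≫ Y.hom = g := by
    simp only [φ, Category.assoc, ← pullback.condition]
    rw [reassoc_of% hs']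
  have hφa : (g ⁻¹ᵁ U).ι ≫ φ = a := by
    simp only [φ]
    rw [reassoc_of% hss']
    exact pullback.lift_snd _ _ _
  have hφfin : IsFinite φ := by
    have : IsFinite (φ ≫ Y.hom) := by rw [hφ]; exact hgfin
    exact MorphismProperty.of_postcomp @IsFinite (W' := @IsSeparated) φ Y.hom inferInstance this
  -- `φ` is surjective
  have hdY : Dense ((Y.hom ⁻¹ᵁ U : Y.left.Opens) : Set Y.left) :=
    hdC.preimage Y.hom.isOpenMap
  let l : ((Y.hom ⁻¹ᵁ U : Y.left.Opens) : Scheme.{u}) ⟶ pullback Y.hom U.ι :=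
    pullback.lift (Y.hom ⁻¹ᵁ U).ι (Y.hom ∣_ U) (morphismRestrict_ι _ _).symm
  let t : ((Y.hom ⁻¹ᵁ U : Y.left.Opens) : Scheme.{u}) ⟶ Spec (CommRingCat.of E) :=
    l ≫ ihom ≫ (g ⁻¹ᵁ U).ι
  have ht : t ≫ φ = (Y.hom ⁻¹ᵁ U).ι := by
    simp only [t, Category.assoc, hφa, a]
    rw [reassoc_of% hii]
    exact pullback.lift_fst _ _ _
  have hsurj : Function.Surjective φ := by
    have hcl : IsClosed (Set.range φ) := φ.isClosedMap.isClosed_range
    have hsub : ((Y.hom ⁻¹ᵁ U : Y.left.Opens) : Set Y.left) ⊆ Set.range φ := by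
      intro y hy
      refine ⟨t ⟨y, hy⟩, ?_⟩
      rw [← Scheme.Hom.comp_apply, ht]
      rfl
    rw [← Set.range_eq_univ]
    have h1 := (hdY.mono hsub).closure_eq
    rwa [hcl.closure_eq] at h1
  have hconn : ConnectedSpace Y.left := hsurj.connectedSpace φ.continuous
  obtain ⟨hYi, hYn⟩ := Groth.Agent.S0246.result hCN Y
  have hiso : IsIso φ := Groth.Agent.S2347.result hYn φ (Y.hom ⁻¹ᵁ U) hdY t ht
  change Etale g
  rw [← hφ]
  infer_instance

end Scheme

/-- Étaleness over the punctured spectrum from étaleness at the primes. -/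
theorem etale_restrict (C : Type u) [CommRing C] [IsLocalRing C] (E : Type u) [CommRing E]
    [Algebra C E] [Algebra.FinitePresentation C E]
    (het : ∀ x : PrimeSpectrum E, x.asIdeal.comap (algebraMap C E) ≠ maximalIdeal C →
      Algebra.IsEtaleAt C x.asIdeal) :
    Etale (((Spec.map (CommRingCat.ofHom (algebraMap C E))) ⁻¹ᵁ (FEt.puncturedSpec C)).ι ≫
      Spec.map (CommRingCat.ofHom (algebraMap C E))) := by
  let g := Spec.map (CommRingCat.ofHom (algebraMap C E))
  let U := FEt.puncturedSpec C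
  have key : ∀ x : (g ⁻¹ᵁ U : Set (Spec (CommRingCat.of E))), ∃ W : (Spec (CommRingCat.of E)).Opens,
      x.1 ∈ W ∧ Etale (W.ι ≫ g) := by
    rintro ⟨x, hx⟩
    have hx' : x.asIdeal.comap (algebraMap C E) ≠ maximalIdeal C := by
      intro h
      apply hx
      exact PrimeSpectrum.ext h
    have := het x hx'
    obtain ⟨f, hf, hf'⟩ := Algebra.exists_etale_of_isEtaleAt (R := C) x.asIdeal
    let j := Spec.map (CommRingCat.ofHom (algebraMap E (Localization.Away f)))
    refine ⟨PrimeSpectrum.basicOpen f, hf, ?_⟩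
    have hr : Set.range (Scheme.Opens.ι (X := Spec (CommRingCat.of E)) (PrimeSpectrum.basicOpen f)) =
        Set.range j := by
      rw [Scheme.Opens.range_ι]
      exact (PrimeSpectrum.localization_away_comap_range (Localization.Away f) f).symm
    have h1 := IsOpenImmersion.isoOfRangeEq_hom_fac
      (Scheme.Opens.ι (X := Spec (CommRingCat.of E)) (PrimeSpectrum.basicOpen f)) j hr
    rw [← h1, Category.assoc]
    have h2 : Etale (j ≫ g) := by
      rw [← Spec.map_comp, HasRingHomProperty.Spec_iff (P := @Etale)]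
      have h3 : (CommRingCat.ofHom (algebraMap C E) ≫
        CommRingCat.ofHom (algebraMap E (Localization.Away f))).hom =
          algebraMap C (Localization.Away f) := (IsScalarTower.algebraMap_eq C E _).symm
      rw [h3]
      exact RingHom.etale_algebraMap.2 hf'
    infer_instance
  choose W hW hW' using key
  refine IsZariskiLocalAtSource.of_iSup_eq_top (P := @Etale)
    (fun x => (g ⁻¹ᵁ U).ι ⁻¹ᵁ (W x)) ?_ ?_
  · rw [eq_top_iff]
    intro x _
    exact TopologicalSpace.Opens.mem_iSup.2 ⟨⟨x.1, x.2⟩, hW _⟩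
  · intro x
    have h1 : ((g ⁻¹ᵁ U).ι ⁻¹ᵁ (W x)).ι ≫ (g ⁻¹ᵁ U).ι ≫ g =
        ((g ⁻¹ᵁ U).ι ∣_ (W x)) ≫ (W x).ι ≫ g := by
      rw [← Category.assoc, ← morphismRestrict_ι, Category.assoc]
    have := hW' x
    change Etale (((g ⁻¹ᵁ U).ι ⁻¹ᵁ (W x)).ι ≫ (g ⁻¹ᵁ U).ι ≫ g)
    rw [h1]
    infer_instance

end K158.RamPure
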