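import Groth.Agent.Pi1.K158.RamPure
import Groth.Agent.UnramA.DescentPoint
import Groth.Agent.Pi1B.NormalUnram
import Groth.Agent.Etrest.IntHens
import Groth.Prelude.Def_EGA4b
import Mathlib.RingTheory.Localization.BaseChange
import Mathlib.RingTheory.Etale.Locus

/-!
# Unramifiedness of a normal finite extension over a pure henselian base
-/

set_option autoImplicit false
universe u

open CategoryTheory CategoryTheory.Limits AlgebraicGeometry TopologicalSpace IsLocalRing
open scoped TensorProduct

namespace K158.RamPure

open Groth.Agent

section

variable {A B C D : Type u} [CommRing A] [CommRing B] [CommRing C] [CommRing D]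
  [Algebra A B] [Algebra A C] [Algebra A D] [Algebra B D] [Algebra C D]
  [IsScalarTower A B D] [IsScalarTower A C D] [Algebra.IsPushout A C B D]

/-- Étale loci pull back under base change. -/
theorem isEtaleAt_of_away (f : B) [hf : Algebra.Etale A (Localization.Away f)] (x : Ideal D)
    [x.IsPrime] (hx : algebraMap B D f ∉ x) : Algebra.IsEtaleAt C x := by
  let T := D ⊗[B] Localization.Away f
  let _ : Algebra (Localization.Away f) T := Algebra.TensorProduct.rightAlgebra
  have h0 : Algebra.IsPushout B D (Localization.Away f) T := inferInstance
  have h0' : Algebra.IsPushout B (Localization.Away f) D T := h0.symm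
  have hst : IsScalarTower A (Localization.Away f) T := by
    refine IsScalarTower.of_algebraMap_eq fun x => ?_
    rw [IsScalarTower.algebraMap_apply A B (Localization.Away f), ← IsScalarTower.algebraMap_apply B (Localization.Away f) T,
      IsScalarTower.algebraMap_apply A D T, IsScalarTower.algebraMap_apply A B D,
      ← IsScalarTower.algebraMap_apply B D T]
  have hP : Algebra.IsPushout A B C D := Algebra.IsPushout.symm inferInstance
  have h1' : Algebra.IsPushout A (Localization.Away f) C T :=
    (Algebra.IsPushout.comp_iff A B C (S' := D) (T := Localization.Away f) (T' := T)).2 h0'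
  have h1 : Algebra.IsPushout A C (Localization.Away f) T := h1'.symm
  have h2 : Algebra.Etale C T :=
    Algebra.Etale.of_equiv (Algebra.IsPushout.equiv A C (Localization.Away f) T)
  have h3 : IsLocalization.Away (algebraMap B D f) T := by
    have := IsLocalization.tensor (S := D) (A := Localization.Away f) (Submonoid.powers f)
    rw [Algebra.algebraMapSubmonoid_powers] at this
    exact this
  have h4 : Algebra.FormallyEtale C (Localization.Away (algebraMap B D f)) := by
    refine Algebra.FormallyEtale.of_equiv (A := T) ?_
    exact (IsLocalization.algEquiv (Submonoid.powers (algebraMap B D f)) T _).restrictScalars C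
  exact (Algebra.basicOpen_subset_etaleLocus_iff.2 h4) (a := ⟨x, inferInstance⟩) hx

theorem finite_of_isPushout [Module.Finite A B] : Module.Finite C D :=
  Module.Finite.equiv (Algebra.IsPushout.equiv A C B D).toLinearEquiv

/-- Let `A ⊆ B` be a finite extension of domains with `A` normal, `q` a prime of `B` minimal among
the primes at which `B` is ramified, `C` a normal henselian Noetherian local domain over `A` with
`(q ∩ A) C` the maximal ideal, such that restriction from finite étale covers of `Spec C` to its
punctured spectrum is an equivalence.  If `B ⊗_A C` is normal and flat over `B` then `B` is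
unramified at `q`. -/
theorem isUnramifiedAt [IsDomain A] [IsIntegrallyClosed A] [IsDomain B] [Module.Finite A B]
    (hinj : Function.Injective (algebraMap A B)) [IsDomain C] [IsIntegrallyClosed C]
    [IsNoetherianRing C] [HenselianLocalRing C] [Module.Flat B D] (hD : EGA4.IsNormalRing D)
    (hC : (FEt.restrict (FEt.puncturedSpec C).ι).IsEquivalence)
    (q : Ideal B) [q.IsPrime] (hPC : (q.under A).map (algebraMap A C) = maximalIdeal C)
    (n : Ideal D) [n.IsPrime] [n.LiesOver q] (hn : n.under C = maximalIdeal C)
    (hmin : ∀ (q' : Ideal B) [q'.IsPrime], q' ≤ q → ¬ Algebra.IsUnramifiedAt A q' → q' = q) :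
    Algebra.IsUnramifiedAt A q := by
  have hfin : Module.Finite C D := finite_of_isPushout (A := A) (B := B)
  have hmaxn : n.IsMaximal :=
    Ideal.isMaximal_of_isIntegral_of_isMaximal_comap (R := C) n (by
      change (n.under C).IsMaximal
      rw [hn]; infer_instance)
  let E := Localization.AtPrime n
  have hsurj : Function.Surjective (algebraMap D E) :=
    Groth.Agent.Etrest.IntHens.surjective_of_isIntegral C D n E
  have hfinE : Module.Finite C E :=
    Module.Finite.of_surjective (IsScalarTower.toAlgHom C D E).toLinearMap hsurj
  obtain ⟨hE1, hE2⟩ := hD n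
  have hfpE : Algebra.FinitePresentation C E :=
    Algebra.FinitePresentation.of_finiteType.1 inferInstance
  have hne : maximalIdeal E ≠ ⊥ := by
    intro h0
    have hflat : Module.Flat B E := Module.Flat.trans B D E
    have hq : q = ⊥ := by
      rw [eq_bot_iff]
      intro b hb
      by_contra hb0
      have h1 : algebraMap B E b = 0 := by
        have h2 : algebraMap D E (algebraMap B D b) ∈ maximalIdeal E := by
          rw [← Localization.AtPrime.map_eq_maximalIdeal]
          refine Ideal.mem_map_of_mem _ ?_
          have : b ∈ n.under B := by rw [← (inferInstance : n.LiesOver q).over]; exact hb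
          exact this
        rw [h0, Ideal.mem_bot, ← IsScalarTower.algebraMap_apply] at h2
        exact h2
      have h3 : IsSMulRegular E (algebraMap B E b) := by
        have h4 : IsSMulRegular B b := fun x y hxy => mul_left_cancel₀ (show b ≠ 0 from hb0) hxy
        exact h4.of_flat
      rw [h1] at h3
      exact one_ne_zero (h3 (show (0 : E) • (1 : E) = (0 : E) • (0 : E) by simp))
    have hP : q.under A = ⊥ := by
      rw [hq, eq_bot_iff]
      intro a ha
      exact hinj (by rw [map_zero]; exact ha)
    rw [hP, Ideal.map_bot] at hPC
    obtain ⟨x, hx⟩ := nonempty_punctured C hC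
    apply hx
    refine PrimeSpectrum.ext ?_
    change x.asIdeal = maximalIdeal C
    rw [← hPC]
    exact eq_bot_iff.2 ((IsLocalRing.le_maximalIdeal x.isPrime.ne_top).trans hPC.symm.le)
  have het : ∀ x : PrimeSpectrum E, x.asIdeal.comap (algebraMap C E) ≠ maximalIdeal C →
      Algebra.IsEtaleAt C x.asIdeal := by
    intro x hx
    let xD : Ideal D := x.asIdeal.comap (algebraMap D E)
    have hxD : xD.IsPrime := inferInstance
    have hxC : xD.comap (algebraMap C D) ≠ maximalIdeal C := by
      intro h
      apply hx
      rw [← h, IsScalarTower.algebraMap_eq C D E, ← Ideal.comap_comap]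
    have hle : xD ≤ n := by
      have h1 := Ideal.comap_mono (f := algebraMap D E)
        (IsLocalRing.le_maximalIdeal x.isPrime.ne_top)
      have h2 : (maximalIdeal E).comap (algebraMap D E) = n :=
        Localization.AtPrime.comap_maximalIdeal
      rwa [h2] at h1
    let q' : Ideal B := xD.comap (algebraMap B D)
    have hq'le : q' ≤ q := by
      rw [(inferInstance : n.LiesOver q).over]
      exact Ideal.comap_mono hle
    have hq'ne : q' ≠ q := by
      intro h
      apply hxC
      have h1 : maximalIdeal C ≤ xD.comap (algebraMap C D) := by
        rw [← hPC, Ideal.map_le_iff_le_comap, Ideal.comap_comap, ← IsScalarTower.algebraMap_eq,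
          IsScalarTower.algebraMap_eq A B D, ← Ideal.comap_comap, ← h]
      exact (((IsLocalRing.maximalIdeal.isMaximal C).eq_of_le
        (Ideal.IsPrime.ne_top inferInstance) h1)).symm
    have hunr : Algebra.IsUnramifiedAt A q' := by
      by_contra hcon
      exact hq'ne (hmin q' hq'le hcon)
    obtain ⟨f, hf, hf'⟩ :=
      Groth.Agent.Pi1B.NormalUnram.exists_etale_of_isUnramifiedAt hinj q'
    have hx1 : Algebra.IsEtaleAt C xD := isEtaleAt_of_away (A := A) f xD hf
    have hloc : IsLocalization.AtPrime (Localization.AtPrime x.asIdeal) xD :=
      IsLocalization.isLocalization_isLocalization_atPrime_isLocalization n.primeCompl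
        (Localization.AtPrime x.asIdeal) x.asIdeal
    refine Algebra.FormallyEtale.of_equiv (A := Localization.AtPrime xD) ?_
    exact (IsLocalization.algEquiv xD.primeCompl (Localization.AtPrime xD)
      (Localization.AtPrime x.asIdeal)).restrictScalars C
  have h1 : Etale (Spec.map (CommRingCat.ofHom (algebraMap C E))) :=
    etale_of_pure C E hC hne (etale_restrict C E het)
  have h2 : Algebra.Etale C E := by
    rw [HasRingHomProperty.Spec_iff (P := @Etale)] at h1
    exact RingHom.etale_algebraMap.1 h1
  have h3 : Algebra.IsUnramifiedAt C n := by
    change Algebra.FormallyUnramified C E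
    infer_instance
  exact Groth.Agent.UnramA.DescentPoint.isUnramifiedAt_of_isPushout (T := C) n q

end

end K158.RamPure
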