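import Groth.Agent.S14270
import Groth.Prelude.Def_SGA2
import Groth.Prelude.Def_CInt
import Groth.Agent.Pi1.K158.PurePair
import Groth.Agent.Pi1B.CIInduction
import Groth.Agent.Models.CICpl
import Groth.Agent.S0543
import Groth.Agent.S0547
import Groth.Agent.S0548
import Groth.Agent.S0564

/-!
# Purity of local rings of virtual dimension at least three, in the form of pure pairs
-/

set_option autoImplicit false
universe u

open CategoryTheory CategoryTheory.Limits AlgebraicGeometry TopologicalSpace IsLocalRing
open RingTheory.Sequence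

namespace K158.VdimPure

open Groth.Agent Groth.Agent.Pi1B.CIInduction

/-- Purity for quotients of a regular local ring of dimension `≥ |t| + 3` by `(t)`. -/
theorem isEquivalence_of_card {R : Type u} [CommRing R] [IsRegularLocalRing R] {A : Type u}
    [CommRing A] [IsLocalRing A] (ψ : R →+* A) (hψ : Function.Surjective ψ) (t : Finset R)
    (ht : RingHom.ker ψ = Ideal.span (t : Set R))
    (hd : ((t.card + 3 : ℕ) : WithBot ℕ∞) ≤ ringKrullDim R) :
    (FEt.restrict (FEt.puncturedSpec A).ι).IsEquivalence := by
  classical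
  have hAN : IsNoetherianRing A := isNoetherianRing_of_surjective _ _ ψ hψ
  have hRN : IsNoetherianRing (AdicCompletion (maximalIdeal R) R) := Groth.Agent.S0543.result R _
  have hTreg : IsRegularLocalRing (AdicCompletion (maximalIdeal R) R) :=
    (Groth.Agent.S0548.result R).mp inferInstance
  obtain ⟨φ, -, hφ, hker⟩ := Groth.Agent.Models.CICpl.exists_surjective_completion ψ hψ
  have hcpl : IsAdicComplete (maximalIdeal (AdicCompletion (maximalIdeal R) R))
    (AdicCompletion (maximalIdeal R) R) := inferInstance
  obtain ⟨d, hd'⟩ : ∃ d : ℕ, ringKrullDim R = d :=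
    ⟨_, (IsRegularLocalRing.spanFinrank_maximalIdeal (R := R)).symm⟩
  have hs : (t.image (algebraMap R (AdicCompletion (maximalIdeal R) R))).card + 3 ≤ d := by
    have h1 : t.card + 3 ≤ d := by
      rw [hd'] at hd
      exact_mod_cast hd
    have h2 : (t.image (algebraMap R (AdicCompletion (maximalIdeal R) R))).card ≤ t.card :=
      Finset.card_image_le
    omega
  have hker' : RingHom.ker φ =
      Ideal.span ((t.image (algebraMap R (AdicCompletion (maximalIdeal R) R)) : Finset _) :
        Set (AdicCompletion (maximalIdeal R) R)) := by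
    rw [hker, ht, Ideal.map_span, Finset.coe_image]
  exact Groth.Agent.S14270.result A (AdicCompletion (maximalIdeal R) R) d
    (by rw [Groth.Agent.S0547.result, hd']) _ hs
    ((RingHom.quotientKerEquivOfSurjective hφ).symm.trans (Ideal.quotEquivOfEq hker'))

/-- A regular local ring is (trivially) a complete intersection presentation of itself. -/
theorem pres_zero (S : Type u) [CommRing S] [IsRegularLocalRing S] : Pres 0 S :=
  ⟨S, inferInstance, inferInstance, [], RingHom.id S, rfl, Function.surjective_id, by
    rw [Ideal.ofList_nil]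
    exact (RingHom.injective_iff_ker_eq_bot _).1 Function.injective_id, ⟨by simp, by
      intro h
      rw [Ideal.ofList_nil, Submodule.bot_smul] at h
      exact (bot_ne_top (α := Ideal S)) h.symm⟩⟩

/-- The dimension formula in a regular local ring. -/
theorem height_add_dim_quotient (S : Type u) [CommRing S] [IsRegularLocalRing S] (p : Ideal S)
    [p.IsPrime] : (p.height : WithBot ℕ∞) + ringKrullDim (S ⧸ p) = ringKrullDim S := by
  rw [← IsLocalization.AtPrime.ringKrullDim_eq_height p (Localization.AtPrime p)]
  exact (pres_zero S).height_add p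

/-- A local ring `A = R/(s)` of dimension at least `3`, with `R` regular local, which is a complete
intersection when `dim R ≤ 2 + |s|`, is pure. -/
theorem isEquivalence_of_ci {R : Type u} [CommRing R] [IsRegularLocalRing R] {A : Type u}
    [CommRing A] [IsLocalRing A] (ψ : R →+* A) (hψ : Function.Surjective ψ) (s : Finset R)
    (hs : RingHom.ker ψ = Ideal.span (s : Set R)) (h3 : (3 : WithBot ℕ∞) ≤ ringKrullDim A)
    (hci : ringKrullDim R ≤ ((2 + s.card : ℕ) : WithBot ℕ∞) →
      CInt.IsRegularIdeal (Ideal.span (s : Set R))) :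
    (FEt.restrict (FEt.puncturedSpec A).ι).IsEquivalence := by
  classical
  obtain ⟨d, hd⟩ : ∃ d : ℕ, ringKrullDim R = d :=
    ⟨_, (IsRegularLocalRing.spanFinrank_maximalIdeal (R := R)).symm⟩
  by_cases h : s.card + 3 ≤ d
  · refine isEquivalence_of_card ψ hψ s hs ?_
    rw [hd]
    exact_mod_cast h
  · obtain ⟨rs, hrs, hspan⟩ := hci (by
      rw [hd]
      have : d ≤ 2 + s.card := by omega
      exact_mod_cast this)
    have hsp : RingHom.ker ψ = Ideal.span ((rs.toFinset : Finset R) : Set R) := by
      rw [hs, ← hspan]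
      change Ideal.span {r | r ∈ rs} = _
      congr 1
      ext x
      simp
    refine isEquivalence_of_card ψ hψ rs.toFinset hsp ?_
    have h1 := ringKrullDim_add_length_eq_ringKrullDim_of_isRegular rs hrs
    have h2 : ringKrullDim (R ⧸ Ideal.ofList rs) = ringKrullDim A :=
      ringKrullDim_eq_of_ringEquiv ((Ideal.quotEquivOfEq (by rw [hs, hspan])).trans
        (RingHom.quotientKerEquivOfSurjective hψ))
    rw [← h1, h2]
    have h4 : rs.toFinset.card ≤ rs.length := List.toFinset_card_le rs
    calc ((rs.toFinset.card + 3 : ℕ) : WithBot ℕ∞) ≤ ((rs.length + 3 : ℕ) : WithBot ℕ∞) := by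
          exact_mod_cast Nat.add_le_add_right h4 3
      _ = (3 : WithBot ℕ∞) + rs.length := by push_cast; ring
      _ ≤ _ := by gcongr

/-- Kernel of the localization of a surjection. -/
theorem ker_localRingHom {S T : Type u} [CommRing S] [CommRing T] (f : S →+* T)
    (hf : Function.Surjective f) (r : Ideal T) [r.IsPrime] (r' : Ideal S) [r'.IsPrime]
    (hr : r' = r.comap f) : RingHom.ker (Localization.localRingHom r' r f hr) =
      (RingHom.ker f).map (algebraMap S (Localization.AtPrime r')) := by
  rw [← Groth.Agent.Ega4A.QuotLoc.ker_eq f hf r r' hr (RingHom.ker f) le_rfl]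
  have h1 : ((RingHom.ker f).map f) = ⊥ := by
    rw [eq_bot_iff, Ideal.map_le_iff_le_comap]
    intro x hx
    exact hx
  rw [h1, Ideal.map_bot]
  ext x
  rw [RingHom.mem_ker, RingHom.mem_ker, RingHom.comp_apply, Ideal.Quotient.eq_zero_iff_mem,
    Ideal.mem_bot]

/-- Heights add along a chain. -/
theorem height_add_length_le {α : Type*} [Preorder α] (a : α) (l : LTSeries α) (h : l.head = a) :
    Order.height a + (l.length : ℕ∞) ≤ Order.height l.last := by
  rcases eq_or_ne (Order.height a) ⊤ with ht | ht
  · have h1 : a ≤ l.last := h ▸ l.head_le_last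
    have h2 := Order.height_mono h1
    rw [ht, top_le_iff] at h2
    rw [h2]
    exact le_top
  · obtain ⟨n, hn⟩ := ENat.ne_top_iff_exists.1 ht
    obtain ⟨p, hp, hlen⟩ := Order.exists_series_of_height_eq_coe a hn.symm
    have h1 := Order.length_le_height (p := p.smash l (hp.trans h.symm)) (x := l.last) (by simp)
    rw [RelSeries.smash_length] at h1
    rw [← hn, ← hlen]
    exact_mod_cast h1

theorem exists_nat_dim (A : Type*) [CommRing A] [IsNoetherianRing A] [IsLocalRing A] :
    ∃ n : ℕ, ringKrullDim A = n := by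
  obtain ⟨x, hx⟩ := WithBot.ne_bot_iff_exists.1 (ringKrullDim_ne_bot (R := A))
  have hx' : x ≠ ⊤ := by
    rintro rfl
    exact ringKrullDim_ne_top (R := A) hx.symm
  obtain ⟨n, rfl⟩ := ENat.ne_top_iff_exists.1 hx'
  exact ⟨n, hx.symm⟩

theorem height_add_le {R : Type u} [CommRing R] [IsRegularLocalRing R] (I : Ideal R)
    [IsLocalRing (R ⧸ I)] (c : ℕ)
    (hc : ringKrullDim R = ringKrullDim (R ⧸ I) + (c : WithBot ℕ∞)) (Q : Ideal (R ⧸ I))
    [Q.IsPrime] : Q.height + (c : ℕ∞) ≤ (Q.comap (Ideal.Quotient.mk I)).height := by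
  have hmono : StrictMono (PrimeSpectrum.comap (Ideal.Quotient.mk I)) := by
    refine Monotone.strictMono_of_injective (fun p q hpq => Ideal.comap_mono hpq)
      (PrimeSpectrum.comap_injective_of_surjective _ Ideal.Quotient.mk_surjective)
  obtain ⟨l, hl, hlen⟩ := Ideal.exists_ltSeries_length_eq_height Q
  let l' := l.map _ hmono
  have hc' : (c : ℕ∞) ≤ Order.height l'.head := by
    have h1 := height_add_dim_quotient R l'.head.asIdeal
    have h2 : ringKrullDim (R ⧸ l'.head.asIdeal) ≤ ringKrullDim (R ⧸ I) := by
      refine ringKrullDim_le_of_surjective (Ideal.Quotient.factor ?_)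
        (Ideal.Quotient.factor_surjective _)
      intro x hx
      change x ∈ Ideal.comap (Ideal.Quotient.mk I) _
      rw [Ideal.mem_comap, Ideal.Quotient.eq_zero_iff_mem.2 hx]
      exact Ideal.zero_mem _
    have h3 : l'.head.asIdeal.height = Order.height l'.head :=
      PrimeSpectrum.height_eq_orderHeight _
    have hnt : Nontrivial (R ⧸ l'.head.asIdeal) :=
      Ideal.Quotient.nontrivial_iff.2 l'.head.isPrime.ne_top
    have hloc : IsLocalRing (R ⧸ l'.head.asIdeal) :=
      IsLocalRing.of_surjective' _ (Ideal.Quotient.mk_surjective (I := l'.head.asIdeal))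
    obtain ⟨k, hk⟩ := exists_nat_dim (R ⧸ l'.head.asIdeal)
    obtain ⟨m, hm⟩ := exists_nat_dim (R ⧸ I)
    obtain ⟨n, hn⟩ := ENat.ne_top_iff_exists.1
      (l'.head.asIdeal.height_ne_top l'.head.isPrime.ne_top)
    rw [hk, hm] at h2
    rw [hc, hk, hm, ← hn] at h1
    rw [← h3, ← hn]
    have h2' : k ≤ m := by exact_mod_cast h2
    have h1' : n + k = m + c := by exact_mod_cast h1
    have : c ≤ n := by omega
    exact_mod_cast this
  have h1 := height_add_length_le _ l' rfl
  have h2 : Order.height l'.last = (Q.comap (Ideal.Quotient.mk I)).height := by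
    rw [← PrimeSpectrum.height_eq_orderHeight]
    congr 1
    change l'.last.asIdeal = (⟨Q.comap (Ideal.Quotient.mk I), inferInstance⟩ :
      PrimeSpectrum R).asIdeal
    congr 1
    have h5 : l'.last = PrimeSpectrum.comap (Ideal.Quotient.mk I) l.last := LTSeries.last_map _ _ _
    rw [h5, hl]
    rfl
  rw [← h2, ← hlen, add_comm]
  refine le_trans ?_ h1
  gcongr
  exact le_rfl

/-- The localized presentation `R_P → A_Q` satisfies the hypotheses of `isEquivalence_of_ci`. -/
theorem localized {R : Type u} [CommRing R] [IsRegularLocalRing R] (s : Finset R)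
    [IsLocalRing (R ⧸ Ideal.span (s : Set R))] (c : ℕ)
    (hc : ringKrullDim R = ringKrullDim (R ⧸ Ideal.span (s : Set R)) + (c : WithBot ℕ∞))
    (hci : ∀ (Q : Ideal (R ⧸ Ideal.span (s : Set R))) [Q.IsPrime],
      Q.height + (c : ℕ∞) ≤ ((2 + s.card : ℕ) : ℕ∞) →
      CInt.IsRegularIdeal ((Ideal.span (s : Set R)).map (algebraMap R
        (Localization.AtPrime (Q.comap (Ideal.Quotient.mk (Ideal.span (s : Set R))))))))
    (Q : Ideal (R ⧸ Ideal.span (s : Set R))) [Q.IsPrime] :
    ∃ (S : Type u) (_ : CommRing S) (_ : IsRegularLocalRing S) (ψ : S →+* Localization.AtPrime Q)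
      (t : Finset S), Function.Surjective ψ ∧ RingHom.ker ψ = Ideal.span (t : Set S) ∧
      (ringKrullDim S ≤ ((2 + t.card : ℕ) : WithBot ℕ∞) →
        CInt.IsRegularIdeal (Ideal.span (t : Set S))) := by
  classical
  let q := Ideal.Quotient.mk (Ideal.span (s : Set R))
  let P : Ideal R := Q.comap q
  have hreg : IsRegularLocalRing (Localization.AtPrime P) := Groth.Agent.S0564.result R P
  refine ⟨Localization.AtPrime P, inferInstance, hreg, Localization.localRingHom P Q q rfl,
    s.image (algebraMap R (Localization.AtPrime P)),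
    Groth.Agent.Ega4A.QuotLoc.localRingHom_surjective q Ideal.Quotient.mk_surjective Q P rfl,
    ?_, ?_⟩
  · rw [ker_localRingHom q Ideal.Quotient.mk_surjective Q P rfl, Ideal.mk_ker, Ideal.map_span,
      Finset.coe_image]
  · intro h
    rw [Finset.coe_image, ← Ideal.map_span]
    apply hci Q
    refine (height_add_le _ c hc Q).trans ?_
    rw [IsLocalization.AtPrime.ringKrullDim_eq_height P] at h
    have h1 : (s.image (algebraMap R (Localization.AtPrime P))).card ≤ s.card :=
      Finset.card_image_le
    have h2 : P.height ≤ ((2 + (s.image (algebraMap R (Localization.AtPrime P))).card : ℕ) : ℕ∞) := by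
      exact WithBot.coe_le_coe.1 h
    refine h2.trans ?_
    exact_mod_cast Nat.add_le_add_left h1 2

/-- The completed version of `isEquivalence_of_ci`. -/
theorem isEquivalence_completion_of_ci {R : Type u} [CommRing R] [IsRegularLocalRing R] {A : Type u}
    [CommRing A] [IsLocalRing A] [IsNoetherianRing A] (ψ : R →+* A) (hψ : Function.Surjective ψ)
    (s : Finset R)
    (hs : RingHom.ker ψ = Ideal.span (s : Set R)) (h3 : (3 : WithBot ℕ∞) ≤ ringKrullDim A)
    (hci : ringKrullDim R ≤ ((2 + s.card : ℕ) : WithBot ℕ∞) →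
      CInt.IsRegularIdeal (Ideal.span (s : Set R))) :
    (FEt.restrict (FEt.puncturedSpec (AdicCompletion (maximalIdeal A) A)).ι).IsEquivalence := by
  classical
  have hRN : IsNoetherianRing (AdicCompletion (maximalIdeal R) R) := Groth.Agent.S0543.result R _
  have hTreg : IsRegularLocalRing (AdicCompletion (maximalIdeal R) R) :=
    (Groth.Agent.S0548.result R).mp inferInstance
  have hff : Module.FaithfullyFlat R (AdicCompletion (maximalIdeal R) R) :=
    Module.FaithfullyFlat.of_flat_of_isLocalHom
  obtain ⟨φ, -, hφ, hker⟩ := Groth.Agent.Models.CICpl.exists_surjective_completion ψ hψ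
  refine isEquivalence_of_ci φ hφ (s.image (algebraMap R (AdicCompletion (maximalIdeal R) R)))
    ?_ ?_ ?_
  · rw [hker, hs, Ideal.map_span, Finset.coe_image]
  · rw [Groth.Agent.S0547.result]
    exact h3
  · intro h
    have h1 : (s.image (algebraMap R (AdicCompletion (maximalIdeal R) R))).card ≤ s.card :=
      Finset.card_image_le
    obtain ⟨rs, hrs, hspan⟩ := hci (by
      rw [← Groth.Agent.S0547.result R]
      exact h.trans (by exact_mod_cast Nat.add_le_add_left h1 2))
    refine ⟨rs.map (algebraMap R _), hrs.of_faithfullyFlat, ?_⟩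
    rw [← Ideal.map_ofList, hspan, Ideal.map_span, Finset.coe_image]

end K158.VdimPure
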